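import Mathlib.Topology.Category.TopCat.Basic
import Mathlib.Algebra.Category.Grp.Basic
import Mathlib.GroupTheory.QuotientGroup.Basic

/-!
# Godement resolutions by functions into stalks

A level consists of a family of groups `E` on a space and, at each point `y`, the subgroup `N y` of
those families which near `y` come from the sheaf being resolved. The next level is the quotient.
-/

universe u

open CategoryTheory Filter Topology

namespace Groth.Agent.H30.Gode

/-- A level of the resolution. -/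
structure Lv (Y : TopCat.{u}) where
  /-- The groups of values. -/
  E : Y → AddCommGrpCat.{u}
  /-- The families which come from the sheaf near a point. -/
  N : ∀ y : Y, AddSubgroup (∀ z : Y, E z)
  mem_of_eventually : ∀ (y : Y) (φ : ∀ z, E z), (∀ᶠ z in 𝓝 y, φ z = 0) → φ ∈ N y

namespace Lv

variable {Y : TopCat.{u}} (A : Lv Y)

/-- The global sections. -/
abbrev Fn : Type u := ∀ z : Y, A.E z

/-- The values of the next level. -/
abbrev Enext (y : Y) : AddCommGrpCat.{u} := AddCommGrpCat.of (A.Fn ⧸ A.N y)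

/-- The differential. -/
def d : A.Fn →+ ∀ y : Y, A.Enext y where
  toFun φ y := QuotientAddGroup.mk' (A.N y) φ
  map_zero' := funext fun _ => map_zero _
  map_add' φ ψ := funext fun _ => map_add _ φ ψ

lemma d_apply (φ : A.Fn) (y : Y) : A.d φ y = QuotientAddGroup.mk' (A.N y) φ := rfl

lemma d_eq_zero_iff (φ : A.Fn) (y : Y) : A.d φ y = 0 ↔ φ ∈ A.N y :=
  QuotientAddGroup.eq_zero_iff φ

lemma d_congr {φ φ' : A.Fn} {y : Y} (h : ∀ᶠ z in 𝓝 y, φ z = φ' z) : A.d φ y = A.d φ' y := by
  rw [← sub_eq_zero, ← Pi.sub_apply, ← map_sub, d_eq_zero_iff]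
  exact A.mem_of_eventually y _ (h.mono fun z hz => sub_eq_zero.2 hz)

/-- The next level. -/
def next : Lv Y where
  E := A.Enext
  N y :=
    { carrier := {ψ | ∃ φ : A.Fn, ∀ᶠ z in 𝓝 y, ψ z = A.d φ z}
      zero_mem' := ⟨0, Eventually.of_forall fun z => by rw [map_zero]⟩
      add_mem' := by
        rintro a b ⟨φ, hφ⟩ ⟨φ', hφ'⟩
        refine ⟨φ + φ', ?_⟩
        filter_upwards [hφ, hφ'] with z h h'
        rw [map_add, Pi.add_apply, Pi.add_apply, h, h']
      neg_mem' := by
        rintro a ⟨φ, hφ⟩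
        refine ⟨-φ, ?_⟩
        filter_upwards [hφ] with z h
        rw [map_neg, Pi.neg_apply, Pi.neg_apply, h] }
  mem_of_eventually y ψ h := ⟨0, h.mono fun z hz => by rw [hz, map_zero]; rfl⟩

lemma mem_next_iff (y : Y) (ψ : A.next.Fn) :
    ψ ∈ A.next.N y ↔ ∃ φ : A.Fn, ∀ᶠ z in 𝓝 y, ψ z = A.d φ z :=
  Iff.rfl

/-- The differential to the next level. -/
def d' : A.Fn →+ A.next.Fn := A.d

lemma d'_d' (φ : A.Fn) : A.next.d' (A.d' φ) = 0 :=
  funext fun y => (A.next.d_eq_zero_iff _ y).2 ⟨φ, Eventually.of_forall fun _ => rfl⟩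

end Lv

/-- A morphism of levels over a continuous map. -/
structure LvHom {Y Y' : TopCat.{u}} (h : Y' ⟶ Y) (A : Lv Y) (B : Lv Y') where
  /-- The maps on values. -/
  m : ∀ y' : Y', A.E (h y') ⟶ B.E y'
  compat : ∀ (y' : Y') (φ : A.Fn), φ ∈ A.N (h y') → (fun z => m z (φ (h z))) ∈ B.N y'

namespace LvHom

variable {Y Y' : TopCat.{u}} {h : Y' ⟶ Y} {A : Lv Y} {B : Lv Y'} (F : LvHom h A B)

/-- The map on global sections. -/
def fn : A.Fn →+ B.Fn where
  toFun φ z := F.m z (φ (h z))
  map_zero' := funext fun z => map_zero (F.m z).hom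
  map_add' φ ψ := funext fun z => map_add (F.m z).hom _ _

lemma fn_apply (φ : A.Fn) (z : Y') : F.fn φ z = F.m z (φ (h z)) := rfl

/-- The map on the values of the next levels. -/
def nextM (y' : Y') : A.Enext (h y') ⟶ B.Enext y' :=
  AddCommGrpCat.ofHom (QuotientAddGroup.map (A.N (h y')) (B.N y') F.fn
    fun φ hφ => F.compat y' φ hφ)

/-- The morphism of the next levels. -/
def next : LvHom h A.next B.next where
  m := F.nextM
  compat y' ψ := by
    rintro ⟨φ, hφ⟩
    exact ⟨F.fn φ, (h.hom.continuous.tendsto y').eventually hφ |>.mono fun z hz =>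
      (congrArg (F.nextM z) hz).trans rfl⟩

/-- Commutation with the differential. -/
lemma next_fn_d' (φ : A.Fn) : F.next.fn (A.d' φ) = B.d' (F.fn φ) := rfl

lemma next_m_mk (y' : Y') (φ : A.Fn) :
    F.next.m y' (A.d φ (h y')) = B.d (F.fn φ) y' := rfl

end LvHom

end Groth.Agent.H30.Gode
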