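import Groth.Prelude.Def_CohTop
import Groth.Agent.H30.Gode.Level

/-!
# The tower of levels of the inverse image of a sheaf

For `g : Y ⟶ S` and a sheaf `F` on `S` the tower starts at the stalks `F_{g y}`; it is contravariant
in spaces over `S`, and local for open embeddings.
-/

universe u

open CategoryTheory Filter Topology TopologicalSpace

namespace Groth.Agent.H30.Gode

variable {S : TopCat.{u}} (F : CohTop.Ab S)

/-- The stalk. -/
noncomputable abbrev stk (s : S) : AddCommGrpCat.{u} := TopCat.Presheaf.stalk F.obj s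

/-- The germ. -/
noncomputable abbrev germ {W : Opens S} {s : S} (hs : s ∈ W) : F.obj.obj (Opposite.op W) ⟶ stk F s :=
  TopCat.Presheaf.germ F.obj W s hs

/-- The germ as a family, extended by zero. -/
noncomputable def germFam {Y : TopCat.{u}} (g : Y ⟶ S) (W : Opens S)
    (t : F.obj.obj (Opposite.op W)) (z : Y) : stk F (g z) := by
  classical exact if h : g z ∈ W then germ F h t else 0

lemma germFam_of_mem {Y : TopCat.{u}} (g : Y ⟶ S) {W : Opens S} (t : F.obj.obj (Opposite.op W))
    (z : Y) (h : g z ∈ W) : germFam F g W t z = germ F h t := by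
  classical exact dif_pos h

/-- The first level. -/
noncomputable def base {Y : TopCat.{u}} (g : Y ⟶ S) : Lv Y where
  E z := stk F (g z)
  N y :=
    { carrier := {φ | ∃ W : Opens S, g y ∈ W ∧ ∃ t : F.obj.obj (Opposite.op W),
        ∀ᶠ z in 𝓝 y, φ z = germFam F g W t z}
      zero_mem' := ⟨⊤, trivial, 0, Eventually.of_forall fun z => by
        rw [germFam_of_mem F g _ z (show g z ∈ (⊤ : Opens S) from trivial), map_zero]; rfl⟩
      add_mem' := by
        rintro a b ⟨W, hW, t, ht⟩ ⟨W', hW', t', ht'⟩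
        refine ⟨W ⊓ W', ⟨hW, hW'⟩, F.obj.map (homOfLE inf_le_left).op t +
          F.obj.map (homOfLE inf_le_right).op t', ?_⟩
        filter_upwards [ht, ht', (g.hom.continuous.tendsto y).eventually
          ((W ⊓ W').isOpen.mem_nhds ⟨hW, hW'⟩)] with z h h' hz
        rw [Pi.add_apply, h, h', germFam_of_mem F g t z hz.1, germFam_of_mem F g t' z hz.2,
          germFam_of_mem F g _ z hz, map_add]
        congr 1 <;> exact (TopCat.Presheaf.germ_res_apply F.obj _ _ _ _).symm
      neg_mem' := by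
        rintro a ⟨W, hW, t, ht⟩
        refine ⟨W, hW, -t, ?_⟩
        filter_upwards [ht, (g.hom.continuous.tendsto y).eventually (W.isOpen.mem_nhds hW)]
          with z h hz
        rw [Pi.neg_apply, h, germFam_of_mem F g t z hz, germFam_of_mem F g (-t) z hz, map_neg] }
  mem_of_eventually y φ h := by
    refine ⟨⊤, trivial, 0, h.mono fun z hz => ?_⟩
    rw [hz, germFam_of_mem F g _ z (show g z ∈ (⊤ : Opens S) from trivial), map_zero]

/-- The tower. -/
noncomputable def lv {Y : TopCat.{u}} (g : Y ⟶ S) : ℕ → Lv Y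
  | 0 => base F g
  | n + 1 => (lv g n).next

variable {Y Y' Y'' : TopCat.{u}} {g : Y ⟶ S} {g' : Y' ⟶ S} {g'' : Y'' ⟶ S}

/-- Stalks at equal points. -/
noncomputable def baseM (h : Y' ⟶ Y) (w : h ≫ g = g') (z : Y') :
    stk F (g (h z)) ⟶ stk F (g' z) :=
  eqToHom (congrArg (stk F) (by rw [← w]; rfl))

/-- Functoriality of the first level. -/
noncomputable def baseHom (h : Y' ⟶ Y) (w : h ≫ g = g') : LvHom h (base F g) (base F g') where
  m := baseM F h w
  compat y φ := by
    subst w
    rintro ⟨W, hW, t, ht⟩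
    exact ⟨W, hW, t, ((h.hom.continuous.tendsto y).eventually ht).mono fun z hz => hz.trans rfl⟩

/-- Functoriality of the tower. -/
noncomputable def hom (h : Y' ⟶ Y) (w : h ≫ g = g') :
    ∀ n, LvHom h (lv F g n) (lv F g' n)
  | 0 => baseHom F h w
  | n + 1 => (hom h w n).next

lemma hom_succ (h : Y' ⟶ Y) (w : h ≫ g = g') (n : ℕ) :
    hom F h w (n + 1) = (hom F h w n).next := rfl

/-- The identity. -/
lemma hom_id (w : 𝟙 Y ≫ g = g) : ∀ (n : ℕ) (z : Y) (e : (lv F g n).E z),
    (hom F (𝟙 Y) w n).m z e = e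
  | 0, z, e => rfl
  | n + 1, z, e => by
    obtain ⟨φ, rfl⟩ := QuotientAddGroup.mk'_surjective _ e
    refine ((hom F (𝟙 Y) w n).next_m_mk z φ).trans ?_
    exact congrArg (fun ψ => (lv F g n).d ψ z) (funext fun z' => hom_id w n z' (φ z'))

/-- Composition. -/
lemma hom_comp (h : Y' ⟶ Y) (w : h ≫ g = g') (h' : Y'' ⟶ Y') (w' : h' ≫ g' = g'')
    (k : Y'' ⟶ Y) (hk : h' ≫ h = k) (w'' : k ≫ g = g'') :
    ∀ (n : ℕ) (φ : (lv F g n).Fn),
      (hom F h' w' n).fn ((hom F h w n).fn φ) = (hom F k w'' n).fn φ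
  | 0, φ => by
    subst hk w w'
    rfl
  | n + 1, ψ => by
    subst hk
    funext z
    obtain ⟨φ, hφ⟩ := QuotientAddGroup.mk'_surjective ((lv F g n).N (h (h' z))) (ψ (h (h' z)))
    have e1 : (hom F h w (n + 1)).m (h' z) (ψ (h (h' z))) =
        (lv F g' n).d ((hom F h w n).fn φ) (h' z) :=
      (congrArg ((hom F h w n).next.m (h' z)) hφ).symm.trans ((hom F h w n).next_m_mk (h' z) φ)
    change (hom F h' w' n).next.m z ((hom F h w (n + 1)).m (h' z) (ψ (h (h' z)))) =
      (hom F (h' ≫ h) w'' n).next.m z (ψ (h (h' z)))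
    rw [e1, ← hφ]
    exact ((hom F h' w' n).next_m_mk z _).trans ((congrArg (fun χ => (lv F g'' n).d χ z)
      (hom_comp h w h' w' _ rfl w'' n φ)).trans ((hom F (h' ≫ h) w'' n).next_m_mk z φ).symm)

/-- For open embeddings every family extends. -/
lemma fn_surjective (h : Y' ⟶ Y) (w : h ≫ g = g') (hh : IsOpenEmbedding h) (n : ℕ)
    (hs : ∀ z, Function.Surjective ((hom F h w n).m z)) :
    Function.Surjective (hom F h w n).fn := fun φ => by
  classical
  refine ⟨fun y => if hy : ∃ z', h z' = y then hy.choose_spec ▸ (hs hy.choose (φ hy.choose)).choose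
    else 0, funext fun z' => ?_⟩
  have hy : ∃ z'', h z'' = h z' := ⟨z', rfl⟩
  rw [LvHom.fn_apply, dif_pos hy]
  have key : ∀ (z'' : Y') (e' : h z'' = h z'),
      (hom F h w n).m z' (e' ▸ (hs z'' (φ z'')).choose) = φ z' := by
    intro z'' e'
    obtain rfl := hh.injective e'
    exact (hs z'' (φ z'')).choose_spec
  exact key _ hy.choose_spec

/-- For open embeddings the maps on values are bijective. -/
lemma hom_bijective (h : Y' ⟶ Y) (w : h ≫ g = g') (hh : IsOpenEmbedding h) :
    ∀ (n : ℕ) (z : Y'), Function.Bijective ((hom F h w n).m z)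
  | 0, z => by
    subst w
    exact Function.bijective_id
  | n + 1, z => by
    classical
    have ih := hom_bijective h w hh n
    refine ⟨fun a b => ?_, fun e => ?_⟩
    · obtain ⟨φ, rfl⟩ := QuotientAddGroup.mk'_surjective _ a
      obtain ⟨φ', rfl⟩ := QuotientAddGroup.mk'_surjective _ b
      intro hab
      have hab' : (hom F h w n).fn (φ - φ') ∈ (lv F g' n).N z := by
        rw [← Lv.d_eq_zero_iff, map_sub, map_sub, Pi.sub_apply, sub_eq_zero]
        exact hab
      refine sub_eq_zero.1 ((map_sub _ _ _).symm.trans ((Lv.d_eq_zero_iff _ (φ - φ') _).2 ?_))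
      exact mem_N_of_fn_mem h w hh n z _ ih hab'
    · obtain ⟨φ, rfl⟩ := QuotientAddGroup.mk'_surjective _ e
      obtain ⟨χ, rfl⟩ := fn_surjective F h w hh n (fun z => (ih z).2) φ
      exact ⟨(lv F g n).d χ (h z), (hom F h w n).next_m_mk z χ⟩
where
  /-- Membership descends along open embeddings. -/
  mem_N_of_fn_mem (h : Y' ⟶ Y) (w : h ≫ g = g') (hh : IsOpenEmbedding h) :
      ∀ (n : ℕ) (z : Y') (φ : (lv F g n).Fn),
        (∀ z, Function.Bijective ((hom F h w n).m z)) →
        (hom F h w n).fn φ ∈ (lv F g' n).N z → φ ∈ (lv F g n).N (h z)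
    | 0, z, φ, _, hφ => by
      subst w
      obtain ⟨W, hW, t, ht⟩ := hφ
      refine ⟨W, hW, t, ?_⟩
      rw [← hh.map_nhds_eq, eventually_map]
      exact ht
    | n + 1, z, ψ, ih, hψ => by
      obtain ⟨φ, hφ⟩ := hψ
      obtain ⟨χ, hχ⟩ := fn_surjective F h w hh n (fun z => (hom_bijective h w hh n z).2) φ
      subst hχ
      refine ⟨χ, ?_⟩
      rw [← hh.map_nhds_eq, eventually_map]
      refine hφ.mono fun z' hz' => (ih z').1 ?_
      exact hz'.trans ((hom F h w n).next_m_mk z' χ).symm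

end Groth.Agent.H30.Gode
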