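import Mathlib.AlgebraicTopology.AlternatingFaceMapComplex
import Mathlib.AlgebraicTopology.SimplicialObject.Basic
import Mathlib.CategoryTheory.Comma.Over.Basic
import Mathlib.Algebra.Category.Grp.Preadditive
import Groth.Agent.H30.Gode.Tower

/-!
# Rows of the descent double complex and their exactness from local contractions
-/

universe u

open CategoryTheory Filter Topology TopologicalSpace Opposite Simplicial

namespace Groth.Agent.H30.Gode

variable {S : TopCat.{u}} (F : CohTop.Ab S)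

/-- The global sections of the `q`-th level, on spaces over `S`. -/
noncomputable def fnF (q : ℕ) : (Over S)ᵒᵖ ⥤ AddCommGrpCat.{u} where
  obj T := AddCommGrpCat.of (lv F T.unop.hom q).Fn
  map {T T'} h := AddCommGrpCat.ofHom (hom F h.unop.left (Over.w h.unop) q).fn
  map_id T := by
    ext φ z
    exact hom_id F _ q z (φ z)
  map_comp {T T' T''} h h' := by
    ext φ z
    exact congrFun (hom_comp F h.unop.left (Over.w h.unop) h'.unop.left (Over.w h'.unop) _ rfl
      (Over.w (h ≫ h').unop) q φ).symm z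

/-- The differential, naturally. -/
noncomputable def dNat (q : ℕ) : fnF F q ⟶ fnF F (q + 1) where
  app T := AddCommGrpCat.ofHom (lv F T.unop.hom q).d'
  naturality T T' h := by
    ext φ
    rfl

lemma dNat_dNat (q : ℕ) : dNat F q ≫ dNat F (q + 1) = 0 := by
  ext T φ
  exact (lv F T.unop.hom q).d'_d' φ

/-- The action of a map over `S` on global sections. -/
noncomputable abbrev pb (q : ℕ) {T T' : Over S} (h : T' ⟶ T) :
    (lv F T.hom q).Fn →+ (lv F T'.hom q).Fn :=
  ((fnF F q).map h.op).hom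

lemma pb_comp (q : ℕ) {T T' T'' : Over S} (h : T' ⟶ T) (h' : T'' ⟶ T')
    (φ : (lv F T.hom q).Fn) : pb F q h' (pb F q h φ) = pb F q (h' ≫ h) φ :=
  (ConcreteCategory.congr_hom ((fnF F q).map_comp h.op h'.op) φ).symm

lemma pb_apply (q : ℕ) {T T' : Over S} (h : T' ⟶ T) (φ : (lv F T.hom q).Fn) (z : T'.left) :
    pb F q h φ z = (hom F h.left (Over.w h) q).m z (φ (h.left z)) := rfl

variable (K : SimplicialObject (Over S))

/-- The `q`-th row as a cosimplicial group. -/
noncomputable abbrev rowObj (q : ℕ) : CosimplicialObject AddCommGrpCat.{u} := K.rightOp ⋙ fnF F q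

/-- The `q`-th row. -/
noncomputable abbrev row (q : ℕ) : CochainComplex AddCommGrpCat.{u} ℕ :=
  (AlgebraicTopology.alternatingCofaceMapComplex AddCommGrpCat.{u}).obj (rowObj F K q)

lemma row_d_apply (q p : ℕ) (c : (lv F (K _⦋p⦌).hom q).Fn) :
    (row F K q).d p (p + 1) c =
      ∑ i : Fin (p + 2), ((-1 : ℤ) ^ (i : ℕ)) • pb F q (K.δ i) c := by
  dsimp only [row, AlgebraicTopology.alternatingCofaceMapComplex,
    AlgebraicTopology.AlternatingCofaceMapComplex.obj]
  rw [CochainComplex.of_d]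
  simp only [AlgebraicTopology.AlternatingCofaceMapComplex.objD]
  refine (map_sum (AddMonoidHom.mk' (fun f : AddCommGrpCat.of (lv F (K _⦋p⦌).hom q).Fn ⟶
    AddCommGrpCat.of (lv F (K _⦋p + 1⦌).hom q).Fn => f c) fun _ _ => rfl) _ _).trans ?_
  rfl

/-- A contraction of the augmented simplicial space `K → S` over a neighbourhood of a point. -/
structure Contr (s : S) where
  /-- The neighbourhood. -/
  W : Over S
  openW : IsOpenEmbedding W.hom
  w : W.left
  hw : W.hom w = s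
  /-- The section. -/
  σ : W ⟶ K _⦋0⦌
  /-- The restrictions of the spaces. -/
  V : ℕ → Over S
  j : ∀ p, V p ⟶ K _⦋p⦌
  openj : ∀ p, IsOpenEmbedding (j p).left
  cover : ∀ (p : ℕ) (y : (K _⦋p⦌).left), (K _⦋p⦌).hom y = s → ∃ z, (j p).left z = y
  r : V 0 ⟶ W
  /-- The insertions. -/
  h : ∀ p, V p ⟶ K _⦋p + 1⦌
  e : ∀ (p : ℕ) (_i : Fin (p + 2)), V (p + 1) ⟶ V p
  h_zero : ∀ p, h p ≫ K.δ 0 = j p
  h_one : h 0 ≫ K.δ 1 = r ≫ σ
  e_j : ∀ p i, e p i ≫ j p = j (p + 1) ≫ K.δ i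
  h_succ : ∀ p (i : Fin (p + 2)), h (p + 1) ≫ K.δ i.succ = e p i ≫ h p

variable {F K} {q : ℕ}

lemma pb_eq_at {T T' : Over S} (j : T' ⟶ T) (hj : IsOpenEmbedding j.left)
    {a b : (lv F T.hom q).Fn} (z : T'.left) (h : pb F q j a z = pb F q j b z) :
    a (j.left z) = b (j.left z) :=
  (hom_bijective F j.left (Over.w j) hj q z).1 h

lemma pb_surjective {T T' : Over S} (j : T' ⟶ T) (hj : IsOpenEmbedding j.left) :
    Function.Surjective (pb F q j) :=
  fn_surjective F j.left (Over.w j) hj q fun z => (hom_bijective F j.left (Over.w j) hj q z).2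

/-- The augmentation. -/
noncomputable abbrev aug (q : ℕ) : (lv F (Over.mk (𝟙 S)).hom q).Fn →+ (lv F (K _⦋0⦌).hom q).Fn :=
  pb F q (Over.homMk (K _⦋0⦌).hom (Category.comp_id _) : K _⦋0⦌ ⟶ Over.mk (𝟙 S))

theorem aug_cocycle (φ : (lv F (Over.mk (𝟙 S)).hom q).Fn) :
    pb F q (K.δ 0) (aug (K := K) q φ) = pb F q (K.δ (1 : Fin 2)) (aug (K := K) q φ) := by
  rw [pb_comp, pb_comp]
  congr 2
  exact Over.OverMorphism.ext ((Over.w (K.δ 0)).trans (Over.w (K.δ (1 : Fin 2))).symm)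

theorem aug_injective (C : ∀ s, Contr K s) : Function.Injective (aug (F := F) (K := K) q) := by
  intro φ φ' e
  funext s
  obtain ⟨W, openW, w, hw, σ, -⟩ := C s
  subst hw
  let iW : W ⟶ Over.mk (𝟙 S) := Over.homMk W.hom (Category.comp_id _)
  refine pb_eq_at iW openW w ?_
  have e' := congrArg (fun t => pb F q σ t w) e
  simp only [aug, pb_comp] at e'
  rwa [show σ ≫ (Over.homMk (K _⦋0⦌).hom (Category.comp_id _) : K _⦋0⦌ ⟶ Over.mk (𝟙 S)) = iW from
    Over.OverMorphism.ext (Over.w σ)] at e'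

theorem exists_aug (C : ∀ s, Contr K s) (c : (lv F (K _⦋0⦌).hom q).Fn)
    (hc : pb F q (K.δ 0) c = pb F q (K.δ (1 : Fin 2)) c) : ∃ φ, aug q φ = c := by
  let iW (s : S) : (C s).W ⟶ Over.mk (𝟙 S) := Over.homMk (C s).W.hom (Category.comp_id _)
  choose ψ hψ using fun s => pb_surjective (F := F) (q := q) (iW s) (C s).openW (pb F q (C s).σ c)
  refine ⟨fun s => ψ s s, funext fun y => ?_⟩
  obtain ⟨s, hs⟩ : ∃ s, (K _⦋0⦌).hom y = s := ⟨_, rfl⟩
  obtain ⟨z, rfl⟩ := (C s).cover 0 y hs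
  refine pb_eq_at ((C s).j 0) ((C s).openj 0) z ?_
  let a : K _⦋0⦌ ⟶ Over.mk (𝟙 S) := Over.homMk (K _⦋0⦌).hom (Category.comp_id _)
  let v : (C s).V 0 ⟶ Over.mk (𝟙 S) := Over.homMk ((C s).V 0).hom (Category.comp_id _)
  have h1 : (C s).j 0 ≫ a = v := Over.OverMorphism.ext (Over.w ((C s).j 0))
  have h2 : (C s).r ≫ iW s = v := Over.OverMorphism.ext (Over.w (C s).r)
  have hz : v.left z = s :=
    (ConcreteCategory.congr_hom (Over.w ((C s).j 0)) z).symm.trans hs
  calc pb F q ((C s).j 0) (pb F q a fun t => ψ t t) z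
      = pb F q v (fun t => ψ t t) z := by rw [pb_comp, h1]
    _ = pb F q v (ψ s) z := by
        rw [pb_apply, pb_apply]
        refine congrArg _ ?_
        change ψ (v.left z) (v.left z) = ψ s (v.left z)
        rw [hz]
    _ = pb F q ((C s).r) (pb F q (C s).σ c) z := by rw [← hψ, pb_comp, h2]
    _ = pb F q ((C s).h 0) (pb F q (K.δ (1 : Fin 2)) c) z := by
        rw [pb_comp, pb_comp, (C s).h_one]
    _ = pb F q ((C s).j 0) c z := by rw [← hc, pb_comp, (C s).h_zero]

theorem row_exact (C : ∀ s, Contr K s) (p : ℕ) (c : (lv F (K _⦋p + 1⦌).hom q).Fn)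
    (hc : (row F K q).d (p + 1) (p + 1 + 1) c = 0) :
    ∃ b, (row F K q).d p (p + 1) b = c := by
  choose ψ hψ using fun s => pb_surjective (F := F) (q := q) ((C s).j p) ((C s).openj p)
    (pb F q ((C s).h p) c)
  refine ⟨fun y => ψ ((K _⦋p⦌).hom y) y, funext fun y => ?_⟩
  obtain ⟨s, hs⟩ : ∃ s, (K _⦋p + 1⦌).hom y = s := ⟨_, rfl⟩
  obtain ⟨z, rfl⟩ := (C s).cover (p + 1) y hs
  refine pb_eq_at ((C s).j (p + 1)) ((C s).openj (p + 1)) z ?_
  rw [row_d_apply, map_sum, Finset.sum_apply]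
  have hterm : ∀ i : Fin (p + 2),
      pb F q ((C s).j (p + 1)) (((-1 : ℤ) ^ (i : ℕ)) • pb F q (K.δ i)
          fun y => ψ ((K _⦋p⦌).hom y) y) z =
        -(((-1 : ℤ) ^ ((i.succ : Fin (p + 3)) : ℕ)) •
          pb F q ((C s).h (p + 1)) (pb F q (K.δ i.succ) c) z) := fun i => by
    rw [map_zsmul, Pi.smul_apply, Fin.val_succ, pow_succ, mul_neg_one, neg_smul, neg_neg]
    refine congrArg (((-1 : ℤ) ^ (i : ℕ)) • ·) ?_
    have hfib : (K _⦋p⦌).hom (((C s).j (p + 1) ≫ K.δ i).left z) = s :=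
      (ConcreteCategory.congr_hom (Over.w ((C s).j (p + 1) ≫ K.δ i)) z).trans
        ((ConcreteCategory.congr_hom (Over.w ((C s).j (p + 1))) z).symm.trans hs)
    rw [pb_comp, pb_apply]
    simp only [hfib]
    refine (pb_apply F q ((C s).j (p + 1) ≫ K.δ i) (ψ s) z).symm.trans ?_
    rw [← (C s).e_j, ← pb_comp, hψ, pb_comp, pb_comp, (C s).h_succ]
  refine (Finset.sum_congr rfl fun i _ => hterm i).trans ?_
  rw [Finset.sum_neg_distrib]
  have h0 : pb F q ((C s).h (p + 1)) ((row F K q).d (p + 1) (p + 1 + 1) c) z = 0 := by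
    refine (congrArg (fun t => pb F q ((C s).h (p + 1)) t z) hc).trans ?_
    exact congrFun (map_zero (pb F q ((C s).h (p + 1)))) z
  rw [row_d_apply, map_sum, Finset.sum_apply, Fin.sum_univ_succ] at h0
  simp only [map_zsmul, Pi.smul_apply] at h0
  refine neg_eq_iff_add_eq_zero.2 ((add_comm _ _).trans ?_)
  refine Eq.trans ?_ h0
  congr 1
  rw [Fin.val_zero, pow_zero, one_smul, pb_comp, (C s).h_zero]

end Groth.Agent.H30.Gode
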