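import Mathlib.CategoryTheory.Limits.Shapes.WidePullbacks
import Mathlib.Topology.Category.TopCat.Limits.Basic
import Groth.Agent.H30.Gode.Rows

/-!
# The Čech nerve of a map with local sections
-/

universe u

open CategoryTheory Limits TopologicalSpace Opposite Simplicial Topology

namespace Groth.Agent.H30.Gode

variable {X S : TopCat.{u}} (f : X ⟶ S)

/-- The Čech nerve, over `S`. -/
noncomputable def nerve : SimplicialObject (Over S) where
  obj n := Over.mk (WidePullback.base (fun _ : Fin (n.unop.len + 1) => f))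
  map g := Over.homMk (WidePullback.lift (WidePullback.base _)
    (fun i => WidePullback.π _ (g.unop.toOrderHom i)) (fun _ => WidePullback.π_arrow _ _))
    (WidePullback.lift_base _ _ _ _)
  map_id n := Over.OverMorphism.ext (by
    apply WidePullback.hom_ext
    · intro j
      exact (WidePullback.lift_π _ _ _ _ _).trans (Category.id_comp _).symm
    · exact (WidePullback.lift_base _ _ _ _).trans (Category.id_comp _).symm)
  map_comp g g' := Over.OverMorphism.ext (by
    apply WidePullback.hom_ext
    · intro j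
      simp only [Over.comp_left, Over.homMk_left, Category.assoc]
      erw [WidePullback.lift_π, WidePullback.lift_π, WidePullback.lift_π]
      rfl
    · simp only [Over.comp_left, Over.homMk_left, Category.assoc]
      erw [WidePullback.lift_base, WidePullback.lift_base, WidePullback.lift_base])

variable (U : Opens S) (σ : TopCat.of U ⟶ X) (hσ : σ ≫ f = TopCat.ofHom ⟨Subtype.val, continuous_subtype_val⟩)

/-- The base part of `U`. -/
abbrev incU : TopCat.of U ⟶ S := TopCat.ofHom ⟨Subtype.val, continuous_subtype_val⟩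

variable (p : ℕ)

/-- The part over `U`. -/
noncomputable abbrev P : TopCat.{u} := widePullback S (fun _ : Fin (p + 1) => X) (fun _ => f)

/-- Its open subset over `U`. -/
noncomputable abbrev vSp : TopCat.{u} :=
  TopCat.of ((Opens.map (WidePullback.base (fun _ : Fin (p + 1) => f))).obj U)

/-- Inclusion. -/
noncomputable abbrev vInc : vSp f U p ⟶ P f p :=
  TopCat.ofHom ⟨Subtype.val, continuous_subtype_val⟩

/-- The map to `U`. -/
noncomputable def vR : vSp f U p ⟶ TopCat.of U :=
  TopCat.ofHom ⟨fun z => ⟨WidePullback.base (fun _ : Fin (p + 1) => f) z.1, z.2⟩, by fun_prop⟩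

lemma vR_inc : vR f U p ≫ incU U = vInc f U p ≫ WidePullback.base (fun _ : Fin (p + 1) => f) := rfl

/-- Insertion of the section in front. -/
noncomputable def vH : vSp f U p ⟶ P f (p + 1) :=
  WidePullback.lift (vInc f U p ≫ WidePullback.base _)
    (Fin.cases (vR f U p ≫ σ) fun i => vInc f U p ≫ WidePullback.π _ i) (fun j => by
      refine Fin.cases ?_ (fun i => ?_) j
      · simp [hσ, vR_inc]
      · simp)

/-- The open part as a space over `S`. -/
noncomputable abbrev vOver : Over S :=
  Over.mk (vInc f U p ≫ WidePullback.base (fun _ : Fin (p + 1) => f))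

/-- The faces. -/
noncomputable def δL (i : Fin (p + 2)) : P f (p + 1) ⟶ P f p :=
  ((nerve f).δ i).left

lemma δL_π (i : Fin (p + 2)) (j : Fin (p + 1)) :
    δL f p i ≫ WidePullback.π (fun _ : Fin (p + 1) => f) j =
      WidePullback.π (fun _ : Fin (p + 2) => f) (i.succAbove j) :=
  WidePullback.lift_π _ _ _ _ _

lemma δL_base (i : Fin (p + 2)) :
    δL f p i ≫ WidePullback.base (fun _ : Fin (p + 1) => f) =
      WidePullback.base (fun _ : Fin (p + 2) => f) :=
  Over.w ((nerve f).δ i)

lemma δL_mem (i : Fin (p + 2)) (z : vSp f U (p + 1)) :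
    δL f p i z.1 ∈ (Opens.map (WidePullback.base (fun _ : Fin (p + 1) => f))).obj U := by
  have e := ConcreteCategory.congr_hom (δL_base f p i) z.1
  change WidePullback.base (fun _ : Fin (p + 1) => f) (δL f p i z.1) ∈ U
  exact e.symm ▸ z.2

/-- The restricted faces. -/
noncomputable def vE (i : Fin (p + 2)) : vSp f U (p + 1) ⟶ vSp f U p :=
  TopCat.ofHom ⟨fun z => ⟨δL f p i z.1, δL_mem f U p i z⟩,
    Continuous.subtype_mk ((δL f p i).hom.continuous.comp continuous_subtype_val) _⟩

lemma vE_inc (i : Fin (p + 2)) : vE f U p i ≫ vInc f U p = vInc f U (p + 1) ≫ δL f p i :=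
  rfl

lemma vH_π_zero : vH f U σ hσ p ≫ WidePullback.π (fun _ : Fin (p + 2) => f) 0 = vR f U p ≫ σ :=
  WidePullback.lift_π _ _ _ _ _

lemma vH_π_succ (i : Fin (p + 1)) :
    vH f U σ hσ p ≫ WidePullback.π (fun _ : Fin (p + 2) => f) i.succ = vInc f U p ≫ WidePullback.π _ i :=
  WidePullback.lift_π _ _ _ _ _

lemma vH_base : vH f U σ hσ p ≫ WidePullback.base (fun _ : Fin (p + 2) => f) =
    vInc f U p ≫ WidePullback.base _ :=
  WidePullback.lift_base _ _ _ _

lemma vH_δ_zero : vH f U σ hσ p ≫ δL f p 0 = vInc f U p := by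
  apply WidePullback.hom_ext
  · intro j
    rw [Category.assoc, δL_π, Fin.succAbove_zero, vH_π_succ]
  · rw [Category.assoc, δL_base, vH_base]

lemma vE_R (i : Fin (p + 2)) : vE f U p i ≫ vR f U p = vR f U (p + 1) := by
  haveI : Mono (incU U) := (TopCat.mono_iff_injective _).2 Subtype.val_injective
  rw [← cancel_mono (incU U), Category.assoc, vR_inc, vR_inc, ← Category.assoc, vE_inc,
    Category.assoc, δL_base]

lemma vH_δ_succ (i : Fin (p + 2)) :
    vH f U σ hσ (p + 1) ≫ δL f (p + 1) i.succ = vE f U p i ≫ vH f U σ hσ p := by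
  apply WidePullback.hom_ext
  · intro j
    rw [Category.assoc, δL_π, Category.assoc]
    refine Fin.cases ?_ (fun j => ?_) j
    · rw [Fin.succ_succAbove_zero, vH_π_zero, vH_π_zero, ← Category.assoc, vE_R]
    · rw [Fin.succ_succAbove_succ, vH_π_succ, vH_π_succ, ← Category.assoc, vE_inc, Category.assoc,
        δL_π]
  · rw [Category.assoc, δL_base, vH_base, Category.assoc, vH_base, ← Category.assoc, vE_inc,
      Category.assoc, δL_base]

/-- A local section gives a contraction. -/
noncomputable def nerveContr (s : S) (hs : s ∈ U) : Contr (nerve f) s where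
  W := Over.mk (incU U)
  openW := U.isOpenEmbedding'
  w := ⟨s, hs⟩
  hw := rfl
  σ := Over.homMk (WidePullback.lift (incU U) (fun _ => σ) (fun _ => hσ)) (WidePullback.lift_base _ _ _ _)
  V p := vOver f U p
  j p := Over.homMk (vInc f U p) rfl
  openj p := ((Opens.map (WidePullback.base (fun _ : Fin (p + 1) => f))).obj U).isOpenEmbedding'
  cover p y hy := ⟨⟨y, by
    change WidePullback.base (fun _ : Fin (p + 1) => f) y ∈ U
    exact hy.symm ▸ hs⟩, rfl⟩
  r := Over.homMk (vR f U 0) (vR_inc f U 0)
  h p := Over.homMk (vH f U σ hσ p) (vH_base f U σ hσ p)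
  e p i := Over.homMk (vE f U p i) (by
    change vE f U p i ≫ vInc f U p ≫ _ = vInc f U (p + 1) ≫ _
    rw [← Category.assoc, vE_inc, Category.assoc, δL_base])
  h_zero p := Over.OverMorphism.ext (vH_δ_zero f U σ hσ p)
  h_one := Over.OverMorphism.ext (by
    apply WidePullback.hom_ext
    · intro j
      change (vH f U σ hσ 0 ≫ δL f 0 1) ≫ WidePullback.π (fun _ : Fin 1 => f) j =
        (vR f U 0 ≫ WidePullback.lift (incU U) (fun _ : Fin 1 => σ) (fun _ => hσ)) ≫
          WidePullback.π (fun _ : Fin 1 => f) j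
      obtain rfl := Subsingleton.elim (α := Fin 1) j 0
      rw [Category.assoc, δL_π, Category.assoc, WidePullback.lift_π]
      exact vH_π_zero f U σ hσ 0
    · change (vH f U σ hσ 0 ≫ δL f 0 1) ≫ WidePullback.base (fun _ : Fin 1 => f) =
        (vR f U 0 ≫ WidePullback.lift (incU U) (fun _ : Fin 1 => σ) (fun _ => hσ)) ≫
          WidePullback.base (fun _ : Fin 1 => f)
      rw [Category.assoc, δL_base, vH_base, Category.assoc, WidePullback.lift_base, vR_inc])
  e_j p i := Over.OverMorphism.ext (vE_inc f U p i)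
  h_succ p i := Over.OverMorphism.ext (vH_δ_succ f U σ hσ p i)

end Groth.Agent.H30.Gode
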