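import Mathlib.Topology.Category.TopCat.Basic
import Mathlib.Topology.Separation.Regular
import Mathlib.Topology.Maps.Proper.Basic

/-!
# Compact relatively separated subsets: separation, gluing of families, induction over a cover
-/

universe u v

open Filter Topology Set

namespace Groth.Agent.H30.Gode

variable {Z T : Type u} [TopologicalSpace Z] [TopologicalSpace T] {i : Z → T}

/-- Distinct points have disjoint neighbourhoods in the ambient space. -/
def RelSep (i : Z → T) : Prop :=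
  ∀ a b : Z, a ≠ b → ∃ U V : Set T, IsOpen U ∧ IsOpen V ∧ i a ∈ U ∧ i b ∈ V ∧ Disjoint U V

lemma RelSep.t2Space (hs : RelSep i) (hi : Continuous i) : T2Space Z :=
  ⟨fun a b hab => by
    obtain ⟨U, V, hU, hV, ha, hb, hd⟩ := hs a b hab
    exact ⟨i ⁻¹' U, i ⁻¹' V, hU.preimage hi, hV.preimage hi, ha, hb, hd.preimage i⟩⟩

lemma separatedNhds_iff_open {A B : Set T} :
    SeparatedNhds A B ↔ ∃ U V, IsOpen U ∧ IsOpen V ∧ A ⊆ U ∧ B ⊆ V ∧ Disjoint U V := Iff.rfl

lemma RelSep.separatedNhds (hs : RelSep i) (hi : Continuous i) {L₁ L₂ : Set Z} (h₁ : IsCompact L₁)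
    (h₂ : IsCompact L₂) (hd : Disjoint L₁ L₂) : SeparatedNhds (i '' L₁) (i '' L₂) := by
  have key : ∀ a ∈ L₁, SeparatedNhds {i a} (i '' L₂) := fun a ha =>
    (h₂.image hi).induction_on (p := fun s => SeparatedNhds {i a} s) (SeparatedNhds.empty_right _)
      (fun s t hst h => h.mono subset_rfl hst) (fun s t h h' => h.union_right h') (by
        rintro _ ⟨b, hb, rfl⟩
        obtain ⟨U, V, hU, hV, ha', hb', hd'⟩ := hs a b fun e => hd.ne_of_mem ha hb e
        exact ⟨V, mem_nhdsWithin_of_mem_nhds (hV.mem_nhds hb'), U, V, hU, hV,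
          Set.singleton_subset_iff.2 ha', subset_rfl, hd'⟩)
  refine (h₁.image hi).induction_on (p := fun s => SeparatedNhds s (i '' L₂))
    (SeparatedNhds.empty_left _) (fun s t hst h => h.mono hst subset_rfl)
    (fun s t h h' => h.union_left h') ?_
  rintro _ ⟨a, ha, rfl⟩
  obtain ⟨U, V, hU, hV, ha', hb', hd'⟩ := key a ha
  exact ⟨U, mem_nhdsWithin_of_mem_nhds (hU.mem_nhds (ha' rfl)), U, V, hU, hV, subset_rfl, hb', hd'⟩

/-- Two families which agree near the intersection of two compact subsets glue. -/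
theorem RelSep.glue (hs : RelSep i) (hi : Continuous i) {E : T → Type v} {L₁ L₂ : Set Z}
    (h₁ : IsCompact L₁) (h₂ : IsCompact L₂) (a b : ∀ t, E t)
    (hab : ∀ z ∈ L₁ ∩ L₂, ∀ᶠ t in 𝓝 (i z), a t = b t) :
    ∃ c : ∀ t, E t, (∀ z ∈ L₁, ∀ᶠ t in 𝓝 (i z), c t = a t) ∧
      ∀ z ∈ L₂, ∀ᶠ t in 𝓝 (i z), c t = b t := by
  classical
  let O := interior {t | a t = b t}
  have hO : IsOpen (i ⁻¹' O) := isOpen_interior.preimage hi
  have hd : Disjoint (L₁ \ i ⁻¹' O) (L₂ \ i ⁻¹' O) := Set.disjoint_left.2 fun z hz hz' =>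
    hz.2 (mem_interior_iff_mem_nhds.2 (hab z ⟨hz.1, hz'.1⟩))
  obtain ⟨U, V, hU, hV, h1, h2, hUV⟩ := hs.separatedNhds hi (h₁.diff hO) (h₂.diff hO) hd
  refine ⟨fun t => if t ∈ U then a t else b t, fun z hz => ?_, fun z hz => ?_⟩
  · by_cases hzO : i z ∈ O
    · filter_upwards [mem_interior_iff_mem_nhds.1 hzO] with t ht
      split_ifs
      · rfl
      · exact ht.symm
    · filter_upwards [hU.mem_nhds (h1 ⟨z, ⟨hz, hzO⟩, rfl⟩)] with t ht
      exact if_pos ht
  · by_cases hzO : i z ∈ O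
    · filter_upwards [mem_interior_iff_mem_nhds.1 hzO] with t ht
      split_ifs
      · exact ht
      · rfl
    · filter_upwards [hV.mem_nhds (h2 ⟨z, ⟨hz, hzO⟩, rfl⟩)] with t ht
      exact if_neg (hUV.notMem_of_mem_right ht)

/-- Induction over the closed subsets of a closed subset of a compact Hausdorff space. -/
theorem closed_induction [CompactSpace Z] [T2Space Z] {A : Set Z} (hA : IsClosed A)
    {P : Set Z → Prop} (h0 : P ∅) (hmono : ∀ L L', L ⊆ L' → P L' → P L)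
    (hu : ∀ L L', IsClosed L → IsClosed L' → L ⊆ A → L' ⊆ A → P L → P L' → P (L ∪ L'))
    (hloc : ∀ z ∈ A, ∃ s ∈ 𝓝 z, P (s ∩ A)) : P A := by
  obtain ⟨L, -, hL, -, hP⟩ : ∃ L, IsClosed L ∧ A ⊆ L ∧ L ⊆ A ∧ P L :=
    hA.isCompact.induction_on (p := fun s => ∃ L, IsClosed L ∧ s ⊆ L ∧ L ⊆ A ∧ P L)
      ⟨∅, isClosed_empty, subset_rfl, empty_subset _, h0⟩
      (fun s t hst ⟨L, h1, h2, h3, h4⟩ => ⟨L, h1, hst.trans h2, h3, h4⟩)
      (fun s t ⟨L, h1, h2, h3, h4⟩ ⟨L', h1', h2', h3', h4'⟩ => ⟨L ∪ L', h1.union h1',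
        union_subset_union h2 h2', union_subset h3 h3', hu L L' h1 h1' h3 h3' h4 h4'⟩)
      (fun z hz => by
        obtain ⟨s, hs, hP⟩ := hloc z hz
        obtain ⟨C, hC, hCc, hCs⟩ := exists_mem_nhds_isClosed_subset hs
        exact ⟨C ∩ A, inter_mem_nhdsWithin_of hC, C ∩ A, hCc.inter hA, subset_rfl,
          inter_subset_right, hmono _ _ (inter_subset_inter_left _ hCs) hP⟩)
  exact hmono _ _ hL hP
where
  inter_mem_nhdsWithin_of {Z : Type u} [TopologicalSpace Z] {A C : Set Z} {z : Z} (hC : C ∈ 𝓝 z) :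
      C ∩ A ∈ 𝓝[A] z := inter_mem (mem_nhdsWithin_of_mem_nhds hC) self_mem_nhdsWithin

end Groth.Agent.H30.Gode
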