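import Mathlib.Topology.Category.TopCat.Limits.Pullbacks
import Mathlib.Topology.Maps.Proper.Basic
import Mathlib.AlgebraicTopology.SimplicialObject.Basic
import Groth.Agent.H30.Gode.Nerve
import Groth.Agent.H30.Gode.Sep

/-!
# Fibres of spaces over a base, and properness of fibre powers
-/

universe u

open CategoryTheory Limits TopologicalSpace Opposite Simplicial Topology Filter

namespace Groth.Agent.H30.Gode

variable {S : TopCat.{u}} (s : S)

/-- The fibre as a space. -/
abbrev fibSp (T : Over S) : TopCat.{u} := TopCat.of {y : T.left // T.hom y = s}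

/-- The inclusion of the fibre. -/
abbrev fibIncl (T : Over S) : fibSp s T ⟶ T.left :=
  TopCat.ofHom ⟨Subtype.val, continuous_subtype_val⟩

/-- The fibre over `S`. -/
abbrev fibO (T : Over S) : Over S := Over.mk (fibIncl s T ≫ T.hom)

/-- Inclusion over `S`. -/
abbrev fibι (T : Over S) : fibO s T ⟶ T := Over.homMk (fibIncl s T) rfl

lemma fib_hom_apply {T T' : Over S} (g : fibO s T ⟶ T') (z : fibSp s T) :
    T'.hom (g.left z) = s :=
  (ConcreteCategory.congr_hom (Over.w g) z).trans z.2

/-- Maps out of a fibre land in the fibre. -/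
def fibLift {T T' : Over S} (g : fibO s T ⟶ T') : fibO s T ⟶ fibO s T' :=
  Over.homMk (TopCat.ofHom ⟨fun z => ⟨g.left z, fib_hom_apply s g z⟩,
    g.left.hom.continuous.subtype_mk _⟩) (by
    ext z
    exact ConcreteCategory.congr_hom (Over.w g) z)

@[simp, reassoc] lemma fibLift_ι {T T' : Over S} (g : fibO s T ⟶ T') :
    fibLift s g ≫ fibι s T' = g :=
  Over.OverMorphism.ext rfl

lemma fibι_mono {T T' : Over S} {a b : T' ⟶ fibO s T} (h : a ≫ fibι s T = b ≫ fibι s T) :
    a = b := by
  apply Over.OverMorphism.ext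
  ext z
  exact Subtype.ext (ConcreteCategory.congr_hom (congrArg CommaMorphism.left h) z)

/-- The action on maps. -/
def fibMap {T T' : Over S} (g : T ⟶ T') : fibO s T ⟶ fibO s T' := fibLift s (fibι s T ≫ g)

@[reassoc] lemma fibMap_ι {T T' : Over S} (g : T ⟶ T') :
    fibMap s g ≫ fibι s T' = fibι s T ≫ g := fibLift_ι s _

/-- Passing to fibres. -/
def fibFunctor : Over S ⥤ Over S where
  obj T := fibO s T
  map g := fibMap s g
  map_id T := fibι_mono s (by simp [fibMap_ι])
  map_comp g g' := fibι_mono s (by simp [fibMap_ι, fibMap_ι_assoc])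

/-- The fibre of a simplicial space over `S`. -/
abbrev fibK (K : SimplicialObject (Over S)) : SimplicialObject (Over S) := K ⋙ fibFunctor s

lemma fibK_δ (K : SimplicialObject (Over S)) {p : ℕ} (j : Fin (p + 2)) :
    (fibK s K).δ j ≫ fibι s (K _⦋p⦌) = fibι s (K _⦋p + 1⦌) ≫ K.δ j :=
  fibMap_ι s (K.δ j)

/-- Properness, with separated fibres. -/
structure IsProperSep (T : Over S) : Prop where
  proper : IsProperMap T.hom
  sep : ∀ x x' : T.left, T.hom x = T.hom x' → x ≠ x' →
    ∃ U V : Set T.left, IsOpen U ∧ IsOpen V ∧ x ∈ U ∧ x' ∈ V ∧ Disjoint U V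

lemma IsProperSep.id : IsProperSep (Over.mk (𝟙 S)) where
  proper := isProperMap_id
  sep _ _ e h := absurd e h

lemma IsProperSep.compactSpace {T : Over S} (h : IsProperSep T) : CompactSpace (fibSp s T) :=
  isCompact_iff_compactSpace.1 (h.proper.isCompact_preimage isCompact_singleton)

lemma IsProperSep.relSep {T : Over S} (h : IsProperSep T) : RelSep (fibIncl s T : fibSp s T → T.left) :=
  fun a b hab => h.sep a.1 b.1 (a.2.trans b.2.symm) fun e => hab (Subtype.ext e)

lemma IsProperSep.tube {T : Over S} (h : IsProperSep T) {P : T.left → Prop}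
    (hP : ∀ z : fibSp s T, ∀ᶠ y in 𝓝 z.1, P y) :
    ∀ᶠ t in 𝓝 s, ∀ y, T.hom y = t → P y := by
  have hc : IsClosed (T.hom '' (interior {y | P y})ᶜ) :=
    h.proper.isClosedMap _ isOpen_interior.isClosed_compl
  have hs : s ∉ T.hom '' (interior {y | P y})ᶜ := by
    rintro ⟨y, hy, rfl⟩
    exact hy (mem_interior_iff_mem_nhds.2 (hP ⟨y, rfl⟩))
  filter_upwards [hc.isOpen_compl.mem_nhds hs] with t ht y hy
  by_contra hy'
  exact ht ⟨y, fun h' => hy' (interior_subset h'), hy⟩

variable {X : TopCat.{u}} (f : X ⟶ S) {p : ℕ}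

lemma nerve_ext {z z' : P f p}
    (h : ∀ j, WidePullback.π (fun _ : Fin (p + 1) => f) j z = WidePullback.π (fun _ : Fin (p + 1) => f) j z')
    (hb : WidePullback.base (fun _ : Fin (p + 1) => f) z = WidePullback.base (fun _ : Fin (p + 1) => f) z') :
    z = z' := by
  apply Concrete.limit_ext
  rintro (_ | j)
  · exact hb
  · exact h j

lemma exists_nerve_point (x : Fin (p + 1) → X) (t : S) (hx : ∀ j, f (x j) = t) :
    ∃ z : P f p, (∀ j, WidePullback.π (fun _ : Fin (p + 1) => f) j z = x j) ∧
      WidePullback.base (fun _ : Fin (p + 1) => f) z = t := by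
  let l : TopCat.of PUnit.{u + 1} ⟶ P f p := WidePullback.lift
    (TopCat.ofHom ⟨fun _ => t, continuous_const⟩)
    (fun j => TopCat.ofHom ⟨fun _ => x j, continuous_const⟩) fun j => by
      ext; exact hx j
  refine ⟨l PUnit.unit, fun j => ?_, ?_⟩
  · exact ConcreteCategory.congr_hom (WidePullback.lift_π (fun _ : Fin (p + 1) => f) _ _ _ j) _
  · exact ConcreteCategory.congr_hom (WidePullback.lift_base (fun _ : Fin (p + 1) => f) _ _ _) _

variable (p) in
theorem isProperSep_nerve (hf : IsProperMap f)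
    (hs : ∀ x x' : X, f x = f x' → x ≠ x' →
      ∃ U V : Set X, IsOpen U ∧ IsOpen V ∧ x ∈ U ∧ x' ∈ V ∧ Disjoint U V) :
    IsProperSep ((nerve f) _⦋p⦌) where
  proper := by
    let π := fun j => WidePullback.π (fun _ : Fin (p + 1) => f) j
    let b := WidePullback.base (fun _ : Fin (p + 1) => f)
    change IsProperMap (b : P f p → S)
    refine isProperMap_iff_ultrafilter.2 ⟨b.hom.continuous, fun 𝒰 t ht => ?_⟩
    have hj : ∀ j, ∃ x, f x = t ∧ Tendsto (π j) 𝒰 (𝓝 x) := fun j => by
      obtain ⟨x, hx, hx'⟩ := hf.ultrafilter_le_nhds_of_tendsto (𝒰 := 𝒰.map (π j)) (y := t) (by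
        have e : (f : X → S) ∘ π j = b := funext fun z =>
          ConcreteCategory.congr_hom (WidePullback.π_arrow (fun _ : Fin (p + 1) => f) j) z
        rw [Ultrafilter.coe_map, Filter.tendsto_map'_iff]
        exact e ▸ ht)
      exact ⟨x, hx, hx'⟩
    choose x hx hx' using hj
    obtain ⟨z, hz, hzb⟩ := exists_nerve_point f x t hx
    refine ⟨z, hzb, ?_⟩
    rw [TopCat.limit_topology, nhds_iInf, le_iInf_iff]
    rintro (_ | j)
    · rw [nhds_induced, ← map_le_iff_le_comap]
      exact le_of_le_of_eq ht (congrArg 𝓝 hzb.symm)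
    · rw [nhds_induced, ← map_le_iff_le_comap]
      exact le_of_le_of_eq (hx' j) (congrArg 𝓝 (hz j).symm)
  sep z z' e hne := by
    obtain ⟨j, hj⟩ : ∃ j, WidePullback.π (fun _ : Fin (p + 1) => f) j z ≠
        WidePullback.π (fun _ : Fin (p + 1) => f) j z' := by
      by_contra h
      push Not at h
      exact hne (nerve_ext f h e)
    have hw := fun w => ConcreteCategory.congr_hom (WidePullback.π_arrow (fun _ : Fin (p + 1) => f) j) w
    obtain ⟨U, V, hU, hV, hz, hz', hd⟩ := hs _ _ ((hw z).trans (e.trans (hw z').symm)) hj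
    exact ⟨_, _, hU.preimage (WidePullback.π (fun _ : Fin (p + 1) => f) j).hom.continuous,
      hV.preimage (WidePullback.π (fun _ : Fin (p + 1) => f) j).hom.continuous, hz, hz', hd.preimage _⟩

end Groth.Agent.H30.Gode
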