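import Groth.Agent.H30.Gode.Descent
import Groth.Agent.H30.Gode.Lift
import Groth.Agent.H30.Gode.FibSp
import Groth.Agent.H30.E1.BicxAug

/-!
# The augmented descent bicomplex and its comparison with the fibres
-/

universe u

open CategoryTheory Limits Filter Topology TopologicalSpace Opposite Simplicial

namespace Groth.Agent.H30.Gode

variable {S : TopCat.{u}} (F : CohTop.Ab S) (K : SimplicialObject (Over S)) (B : Over S)

/-- The spaces of the augmented simplicial space. -/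
abbrev aT : ℕ → Over S
  | 0 => B
  | p + 1 => K _⦋p⦌

variable (a : K _⦋0⦌ ⟶ B) (ha : K.δ 0 ≫ a = K.δ (1 : Fin 2) ≫ a)

/-- The horizontal differentials. -/
noncomputable def aH : ∀ p q, (lv F (aT K B p).hom q).Fn →+ (lv F (aT K B (p + 1)).hom q).Fn
  | 0, q => pb F q a
  | p + 1, q => ((row F K q).d p (p + 1)).hom

include ha in
lemma aH_aH : ∀ p q x, aH F K B a (p + 1) q (aH F K B a p q x) = 0
  | 0, q, x => by
    refine (row_d_zero F K q _).trans (sub_eq_zero.2 ?_)
    change pb F q (K.δ 0) (pb F q a x) = pb F q (K.δ (1 : Fin 2)) (pb F q a x)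
    rw [pb_comp, pb_comp, ha]
  | p + 1, q, x => ConcreteCategory.congr_hom ((row F K q).d_comp_d p (p + 1) (p + 1 + 1)) x

/-- The augmented descent bicomplex. -/
noncomputable def bicx : E1.Bicx.{u} where
  X p q := AddCommGrpCat.of (lv F (aT K B p).hom q).Fn
  h := aH F K B a
  v p q := dl F (aT K B p).hom q
  hh := aH_aH F K B a ha
  vv p q x := (lv F (aT K B p).hom q).d'_d' x
  comm p q x := match p with
    | 0 => ConcreteCategory.congr_hom ((dNat F q).naturality a.op).symm x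
    | p + 1 => ConcreteCategory.congr_hom ((rowD F K q).comm p (p + 1)) x

/-- Families vanishing over a point. -/
def vanish {T : Over S} (q : ℕ) (t : S) : AddSubgroup (lv F T.hom q).Fn where
  carrier := {φ | ∀ y, T.hom y = t → φ y = 0}
  zero_mem' := fun _ _ => rfl
  add_mem' h h' := fun y hy => by
    rw [Pi.add_apply, h y hy, h' y hy, add_zero]
  neg_mem' h := fun y hy => by rw [Pi.neg_apply, h y hy, neg_zero]

/-- Families vanishing near a point. -/
def vanishNear {T : Over S} (q : ℕ) (s : S) : AddSubgroup (lv F T.hom q).Fn where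
  carrier := {φ | ∀ᶠ t in 𝓝 s, φ ∈ vanish F q t}
  zero_mem' := Eventually.of_forall fun _ => zero_mem _
  add_mem' h h' := h.mp (h'.mono fun _ h2 h1 => add_mem h1 h2)
  neg_mem' h := h.mono fun _ h => neg_mem h

variable {F K B a}

lemma pb_vanish {T T' : Over S} (g : T' ⟶ T) {q : ℕ} {t : S} {φ : (lv F T.hom q).Fn}
    (h : φ ∈ vanish F q t) : pb F q g φ ∈ vanish F q t := fun y hy => by
  exact (congrArg ((hom F g.left (Over.w g) q).m y)
    (h _ ((ConcreteCategory.congr_hom (Over.w g) y).trans hy))).trans (map_zero _)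

lemma aH_vanish {t : S} : ∀ p q (x : (lv F (aT K B p).hom q).Fn), x ∈ vanish F q t →
    aH F K B a p q x ∈ vanish F q t
  | 0, q, x, h => pb_vanish a h
  | p + 1, q, x, h => by
    change (row F K q).d p (p + 1) x ∈ _
    rw [row_d_apply]
    exact sum_mem fun i _ => zsmul_mem (pb_vanish _ h) _

lemma dl_vanish {T : Over S} {q : ℕ} {U : Set S} (hU : IsOpen U) {φ : (lv F T.hom q).Fn}
    (h : ∀ t ∈ U, φ ∈ vanish F q t) : ∀ t ∈ U, dl F T.hom q φ ∈ vanish F (q + 1) t := by
  rintro t ht y rfl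
  refine (Lv.d_eq_zero_iff _ _ _).2 ((lv F T.hom q).mem_of_eventually y φ ?_)
  exact ((T.hom.hom.continuous.tendsto y).eventually (hU.mem_nhds ht)).mono fun z hz => h _ hz z rfl

lemma dl_vanishNear {T : Over S} {q : ℕ} {s : S} {φ : (lv F T.hom q).Fn}
    (h : φ ∈ vanishNear F q s) : dl F T.hom q φ ∈ vanishNear F (q + 1) s := by
  obtain ⟨U, hU, hUo, hsU⟩ := mem_nhds_iff.1 h
  exact Filter.mem_of_superset (hUo.mem_nhds hsU) (dl_vanish hUo hU)

lemma stable_vanishNear (ha : K.δ 0 ≫ a = K.δ (1 : Fin 2) ≫ a) (s : S) : (bicx F K B a ha).Stable fun _ q => vanishNear F q s where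
  h p q x hx := hx.mono fun _ ht => aH_vanish p q x ht
  v _ _ _ hx := dl_vanishNear hx

variable (K B a) (s : S)

lemma fib_aug (ha : K.δ 0 ≫ a = K.δ (1 : Fin 2) ≫ a) : (fibK s K).δ 0 ≫ fibMap s a = (fibK s K).δ (1 : Fin 2) ≫ fibMap s a :=
  ((fibFunctor s).map_comp _ _).symm.trans
    ((congrArg (fibFunctor s).map ha).trans ((fibFunctor s).map_comp _ _))

/-- The inclusions of the fibres. -/
abbrev aι : ∀ p, aT (fibK s K) (fibO s B) p ⟶ aT K B p
  | 0 => fibι s B
  | p + 1 => fibι s (K _⦋p⦌)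

variable (F)

/-- The bicomplex of the fibres. -/
noncomputable abbrev fibBicx (ha : K.δ 0 ≫ a = K.δ (1 : Fin 2) ≫ a) : E1.Bicx.{u} :=
  bicx F (fibK s K) (fibO s B) (fibMap s a) (fib_aug K B a s ha)

lemma pb_fib_aH : ∀ p q (x : (lv F (aT K B p).hom q).Fn),
    pb F q (aι K B s (p + 1)) (aH F K B a p q x) =
      aH F (fibK s K) (fibO s B) (fibMap s a) p q (pb F q (aι K B s p) x)
  | 0, q, x => by
    change pb F q (fibι s (K _⦋0⦌)) (pb F q a x) = pb F q (fibMap s a) (pb F q (fibι s B) x)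
    rw [pb_comp, pb_comp, fibMap_ι]
  | p + 1, q, x => by
    change pb F q (fibι s (K _⦋p + 1⦌)) ((row F K q).d p (p + 1) x) =
      (row F (fibK s K) q).d p (p + 1) (pb F q (fibι s (K _⦋p⦌)) x)
    rw [row_d_apply, row_d_apply, map_sum]
    refine Finset.sum_congr rfl fun i _ => ?_
    rw [map_zsmul]
    refine congrArg _ ((pb_comp F q _ _ x).trans ?_)
    refine Eq.trans ?_ (pb_comp F q (fibι s (K _⦋p⦌)) ((fibK s K).δ i) x).symm
    exact congrArg (fun g => pb F q g x) (fibK_δ s K i).symm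

/-- Restriction to the fibres. -/
noncomputable def toFibHom (ha : K.δ 0 ≫ a = K.δ (1 : Fin 2) ≫ a) :
    E1.Bicx.Hom (bicx F K B a ha) (fibBicx F K B a s ha) where
  f p q := pb F q (aι K B s p)
  fh p q x := pb_fib_aH F K B a s p q x
  fv p q x := (hom F (aι K B s p).left (Over.w (aι K B s p)) q).next_fn_d' x

lemma toFibHom_eq_zero (ha : K.δ 0 ≫ a = K.δ (1 : Fin 2) ≫ a) :
    ∀ p q x, x ∈ vanishNear F q s → (toFibHom F K B a s ha).f p q x = 0 := by
  intro p q x hx
  funext z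
  change (hom F (aι K B s p).left (Over.w (aι K B s p)) q).m z (x ((aι K B s p).left z)) = 0
  have h0 : x ((aι K B s p).left z) = 0 := hx.self_of_nhds _ (by rcases p with _ | p <;> exact z.2)
  exact (congrArg _ h0).trans (map_zero _)

/-- Restriction to the fibres, from germs along the fibres. -/
noncomputable def toFib (ha : K.δ 0 ≫ a = K.δ (1 : Fin 2) ≫ a) :
    E1.Bicx.Hom ((bicx F K B a ha).quot (stable_vanishNear ha s)) (fibBicx F K B a s ha) :=
  E1.Bicx.quotLift _ (toFibHom F K B a s ha) (toFibHom_eq_zero F K B a s ha)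

variable {F K B a s}

lemma colQis_aux {T : Over S} (hT : IsProperSep T) {q : ℕ} {Φ : (lv F T.hom q).Fn}
    (h : ∀ z : fibSp s T, ∀ᶠ y in 𝓝 z.1, Φ y = 0) : Φ ∈ vanishNear F q s :=
  hT.tube s h

lemma d_eq_zero_of_vanishNear {T : Over S} {q : ℕ} {Φ : (lv F T.hom q).Fn}
    (h : dl F T.hom q Φ ∈ vanishNear F (q + 1) s) (z : fibSp s T) :
    (lv F T.hom q).d Φ z.1 = 0 :=
  h.self_of_nhds z.1 z.2

section Column

variable {T : Over S} (hT : IsProperSep T)
include hT

theorem col_inj_zero (Φ : (lv F T.hom 0).Fn) (h : dl F T.hom 0 Φ ∈ vanishNear F 1 s)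
    (h' : pb F 0 (fibι s T) Φ = 0) : Φ ∈ vanishNear F 0 s :=
  colQis_aux hT (restrict_inj_zero (F := F) (g := T.hom) (i := fibIncl s T) Φ
    (d_eq_zero_of_vanishNear h) h')

theorem col_inj (q : ℕ) (Φ : (lv F T.hom (q + 1)).Fn)
    (h : dl F T.hom (q + 1) Φ ∈ vanishNear F (q + 2) s) (ψ : (lv F (fibO s T).hom q).Fn)
    (h' : dl F (fibO s T).hom q ψ = pb F (q + 1) (fibι s T) Φ) :
    ∃ Ψ, Φ - dl F T.hom q Ψ ∈ vanishNear F (q + 1) s := by
  have := hT.compactSpace s
  obtain ⟨Ψ, hΨ⟩ := restrict_inj (F := F) (g := T.hom) (i := fibIncl s T) (hT.relSep s) q Φ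
    (d_eq_zero_of_vanishNear h) ψ h'
  exact ⟨Ψ, colQis_aux hT fun z => (hΨ z).mono fun y hy => sub_eq_zero.2 hy⟩

theorem col_surj_zero (ψ : (lv F (fibO s T).hom 0).Fn) (h : dl F (fibO s T).hom 0 ψ = 0) :
    ∃ Φ, dl F T.hom 0 Φ ∈ vanishNear F 1 s ∧ pb F 0 (fibι s T) Φ = ψ := by
  have := hT.compactSpace s
  obtain ⟨Φ, hΦ, e⟩ := restrict_surj_zero (F := F) (g := T.hom) (i := fibIncl s T) (hT.relSep s) ψ h
  exact ⟨Φ, colQis_aux hT hΦ, e⟩

theorem col_surj (q : ℕ) (ψ : (lv F (fibO s T).hom (q + 1)).Fn)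
    (h : dl F (fibO s T).hom (q + 1) ψ = 0) :
    ∃ Φ χ, dl F T.hom (q + 1) Φ ∈ vanishNear F (q + 2) s ∧
      pb F (q + 1) (fibι s T) Φ = ψ + dl F (fibO s T).hom q χ := by
  have := hT.compactSpace s
  obtain ⟨Φ, χ, hΦ, e⟩ := restrict_surj (F := F) (g := T.hom) (i := fibIncl s T) (hT.relSep s) q ψ h
  exact ⟨Φ, χ, colQis_aux hT hΦ, e⟩

end Column

theorem colQis (ha : K.δ 0 ≫ a = K.δ (1 : Fin 2) ≫ a) (hB : IsProperSep B)
    (hK : ∀ p, IsProperSep (K _⦋p⦌)) : (toFib F K B a s ha).ColQis := by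
  refine E1.Bicx.colQis_quotLift _ _ _ (fun p x h h' => ?_) (fun p q x h y' h' => ?_)
    (fun p x' h => ?_) fun p q x' h => ?_
  · rcases p with _ | p
    · exact col_inj_zero hB x h h'
    · exact col_inj_zero (hK p) x h h'
  · rcases p with _ | p
    · exact col_inj hB q x h y' h'
    · exact col_inj (hK p) q x h y' h'
  · rcases p with _ | p
    · exact col_surj_zero hB x' h
    · exact col_surj_zero (hK p) x' h
  · rcases p with _ | p
    · exact col_surj hB q x' h
    · exact col_surj (hK p) q x' h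

end Groth.Agent.H30.Gode
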