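import Mathlib.Topology.Sheaves.SheafOfFunctions
import Mathlib.Topology.Sheaves.SheafCondition.UniqueGluing
import Mathlib.Topology.Sheaves.Stalks
import Mathlib.Topology.Sheaves.Flasque
import Mathlib.Topology.Sheaves.Sheafify
import Mathlib.CategoryTheory.Sites.LocallyBijective
import Groth.Agent.Lib.SiteCoh.LocExact
import Groth.Agent.H30.Gode.Tower

/-!
# The flasque resolution of the inverse image of a sheaf by families of stalk values
-/

universe u

open CategoryTheory Limits Filter Topology TopologicalSpace Opposite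

namespace Groth.Agent.H30.Gode

variable {Y : TopCat.{u}}

/-- Families on an open, extended by zero. -/
noncomputable def ext0 (A : Lv Y) (V : Opens Y) : (∀ y : V, A.E y) →+ A.Fn where
  toFun s z := by classical exact if h : z ∈ V then s ⟨z, h⟩ else 0
  map_zero' := funext fun z => by by_cases h : z ∈ V <;> simp [h]
  map_add' s t := funext fun z => by by_cases h : z ∈ V <;> simp [h]

lemma ext0_of_mem (A : Lv Y) {V : Opens Y} (s : ∀ y : V, A.E y) (z : Y) (h : z ∈ V) :
    ext0 A V s z = s ⟨z, h⟩ := by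
  simp [ext0, h]

/-- The presheaf of families of values of a level. -/
noncomputable def godPre (A : Lv Y) : (Opens Y)ᵒᵖ ⥤ AddCommGrpCat.{u} where
  obj V := AddCommGrpCat.of (∀ y : V.unop, A.E y)
  map i := AddCommGrpCat.ofHom
    { toFun := fun s y => s ⟨y.1, i.unop.le y.2⟩
      map_zero' := rfl
      map_add' := fun _ _ => rfl }
  map_id _ := rfl
  map_comp _ _ := rfl

lemma godPre_isSheaf (A : Lv Y) :
    Presheaf.IsSheaf (Opens.grothendieckTopology Y) (godPre A) :=
  (TopCat.Presheaf.isSheaf_iff_isSheaf_comp (CategoryTheory.forget AddCommGrpCat.{u}) (godPre A)).2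
    (TopCat.Presheaf.toTypes_isSheaf Y fun y => (A.E y : Type u))

/-- The sheaf of families of values of a level. -/
noncomputable def god (A : Lv Y) : CohTop.Ab Y := ⟨godPre A, godPre_isSheaf A⟩

instance god_flasque (A : Lv Y) : TopCat.Sheaf.IsFlasque (god A) where
  epi {U V} i := (AddCommGrpCat.epi_iff_surjective _).2 fun s =>
    ⟨fun y => ext0 A V.unop s y.1, funext fun y => ext0_of_mem A s y.1 y.2⟩

/-- The differential. -/
noncomputable def godD (A : Lv Y) : god A ⟶ god A.next :=
  ⟨{ app := fun V => AddCommGrpCat.ofHom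
      { toFun := fun s y => A.d (ext0 A V.unop s) y.1
        map_zero' := funext fun y => by rw [map_zero, map_zero]; rfl
        map_add' := fun s t => funext fun y => by rw [map_add, map_add]; rfl }
     naturality := fun V W i => by
      ext s
      funext y
      refine A.d_congr ?_
      filter_upwards [W.unop.isOpen.mem_nhds y.2] with z hz
      rw [ext0_of_mem A _ z hz, ext0_of_mem A _ z (i.unop.le hz)]
      rfl }⟩

lemma godD_apply (A : Lv Y) (V : Opens Y) (s : ∀ y : V, A.E y) (y : V) :
    (godD A).hom.app (op V) s y = A.d (ext0 A V s) y.1 := rfl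

lemma godD_godD (A : Lv Y) : godD A ≫ godD A.next = 0 := by
  ext : 2
  ext V s
  funext y
  refine (Lv.d_eq_zero_iff _ _ _).2 ⟨ext0 A V.unop s, ?_⟩
  filter_upwards [V.unop.isOpen.mem_nhds y.2] with z hz
  exact ext0_of_mem A.next _ z hz

lemma godD_lift (A : Lv Y) (V : Opens Y) (x : ∀ y : V, A.next.E y)
    (hx : (godD A.next).hom.app (op V) x = 0) (y : Y) (hy : y ∈ V) :
    ∃ (O : Opens Y) (hO : O ≤ V), y ∈ O ∧ ∃ w : ∀ z : O, A.E z,
      (godD A).hom.app (op O) w = fun z : O => x ⟨z.1, hO z.2⟩ := by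
  obtain ⟨φ, hφ⟩ := (Lv.d_eq_zero_iff _ _ _).1 (congrFun hx ⟨y, hy⟩)
  obtain ⟨O', hO', hOo, hyO⟩ := eventually_nhds_iff.1 hφ
  refine ⟨⟨O', hOo⟩ ⊓ V, inf_le_right, ⟨hyO, hy⟩, fun z => φ z.1, funext fun z => ?_⟩
  refine (A.d_congr ?_).trans ((hO' z.1 z.2.1).symm.trans (ext0_of_mem A.next x z.1 z.2.2))
  filter_upwards [((⟨O', hOo⟩ : Opens Y) ⊓ V).isOpen.mem_nhds z.2] with w hw
  exact ext0_of_mem A _ w hw

variable {S : TopCat.{u}} (F : CohTop.Ab S) (g : Y ⟶ S)

/-- The resolution. -/
noncomputable def godCx : CochainComplex (CohTop.Ab Y) ℕ :=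
  CochainComplex.of (fun n => god (lv F g n)) (fun n => godD (lv F g n)) fun n =>
    godD_godD (lv F g n)

lemma godCx_d (n : ℕ) : (godCx F g).d n (n + 1) = godD (lv F g n) :=
  by simp [godCx]

theorem godCx_exact (n : ℕ) :
    (ShortComplex.mk (godD (lv F g n)) (godD (lv F g (n + 1)))
      (godD_godD (lv F g n))).Exact := by
  let S' : ShortComplex ((Opens Y)ᵒᵖ ⥤ AddCommGrpCat.{u}) :=
    ShortComplex.mk (godD (lv F g n)).hom (godD (lv F g (n + 1))).hom
      (congrArg (fun φ : god (lv F g n) ⟶ god (lv F g n).next.next => φ.hom)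
        (godD_godD (lv F g n)))
  have h1 : (S'.map (presheafToSheaf (Opens.grothendieckTopology Y) AddCommGrpCat.{u})).Exact := by
    refine Lib.SiteCoh.LocExact.exact_map_of_locally_exact _ fun U x hx => ?_
    choose O hO hyO w hw using fun y : U => godD_lift (lv F g n) U x hx y.1 y.2
    refine ⟨⟨fun V _ => ∃ y : U, V ≤ O y, fun ⟨y, hy⟩ i => ⟨y, le_trans i.le hy⟩⟩, ?_, ?_⟩
    · exact fun y hy => ⟨O ⟨y, hy⟩, homOfLE (hO _), ⟨⟨y, hy⟩, le_rfl⟩, hyO _⟩
    · intro V i ⟨y, hy⟩
      refine ⟨(god (lv F g n)).obj.map (homOfLE hy).op (w y), ?_⟩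
      refine (NatTrans.naturality_apply (godD (lv F g n)).hom (homOfLE hy).op (w y)).trans ?_
      exact congrArg ((god (lv F g (n + 1))).obj.map (homOfLE hy).op) (hw y)
  exact ShortComplex.exact_of_iso
    ((ShortComplex.mk _ _ (godD_godD (lv F g n))).mapNatIso
      (asIso (sheafificationAdjunction (Opens.grothendieckTopology Y) AddCommGrpCat.{u}).counit)) h1

/-- Values of germs. -/
noncomputable def pullVal : (TopCat.Presheaf.pullback AddCommGrpCat.{u} g).obj F.obj ⟶
    godPre (lv F g 0) where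
  app V := AddCommGrpCat.ofHom
    { toFun := fun s (y : V.unop) =>
        TopCat.Presheaf.germToPullbackStalk AddCommGrpCat.{u} g F.obj V.unop y.1 y.2 s
      map_zero' := funext fun _ => map_zero _
      map_add' := fun _ _ => funext fun _ => map_add _ _ _ }
  naturality V W i := by
    refine TopCat.Presheaf.pullback_obj_obj_ext _ fun T hT => ?_
    ext t
    funext y
    have h1 := ConcreteCategory.congr_hom
      (TopCat.Presheaf.pullbackPushforwardAdjunction_unit_pullback_map_germToPullbackStalk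
        AddCommGrpCat.{u} g F.obj W.unop y.1 y.2 T (le_trans i.unop.le hT)) t
    have h2 := ConcreteCategory.congr_hom
      (TopCat.Presheaf.pullbackPushforwardAdjunction_unit_pullback_map_germToPullbackStalk
        AddCommGrpCat.{u} g F.obj V.unop y.1 (i.unop.le y.2) T hT) t
    let P := (TopCat.Presheaf.pullback AddCommGrpCat.{u} g).obj F.obj
    let v := ((TopCat.Presheaf.pullbackPushforwardAdjunction AddCommGrpCat.{u} g).unit.app F.obj).app
      (op T) t
    have e : P.map i (P.map (homOfLE hT).op v) = P.map (homOfLE (le_trans i.unop.le hT)).op v := by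
      rw [← ConcreteCategory.comp_apply, ← Functor.map_comp]
      rfl
    exact ((congrArg (TopCat.Presheaf.germToPullbackStalk AddCommGrpCat.{u} g F.obj W.unop y.1 y.2)
      e).trans h1).trans h2.symm

lemma pullVal_unit (T : Opens S) (V : Opens Y) (hT : V ≤ (Opens.map g).obj T)
    (t : F.obj.obj (op T)) (y : Y) (hy : y ∈ V) :
    (pullVal F g).app (op V) (((TopCat.Presheaf.pullback AddCommGrpCat.{u} g).obj F.obj).map
      (homOfLE hT).op (((TopCat.Presheaf.pullbackPushforwardAdjunction AddCommGrpCat.{u} g).unit.app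
        F.obj).app (op T) t)) ⟨y, hy⟩ = germ F (show g y ∈ T from hT hy) t :=
  ConcreteCategory.congr_hom
    (TopCat.Presheaf.pullbackPushforwardAdjunction_unit_pullback_map_germToPullbackStalk
      AddCommGrpCat.{u} g F.obj V y hy T hT) t

lemma pullVal_d : pullVal F g ≫ (godD (lv F g 0)).hom = 0 := by
  refine NatTrans.ext (funext fun V => ?_)
  refine TopCat.Presheaf.pullback_obj_obj_ext _ fun T hT => ?_
  rw [NatTrans.app_zero, comp_zero, comp_zero]
  ext t
  funext y
  refine (Lv.d_eq_zero_iff _ _ _).2 ⟨T, hT y.2, t, ?_⟩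
  filter_upwards [V.unop.isOpen.mem_nhds y.2] with z hz
  refine (ext0_of_mem (lv F g 0) _ z hz).trans ?_
  exact (pullVal_unit F g T V.unop hT t z hz).trans (germFam_of_mem F g t z (hT hz)).symm

/-- The cocycles of the first level. -/
noncomputable abbrev Z0 : CohTop.Ab Y := kernel (godD (lv F g 0))

/-- The comparison to the cocycles. -/
noncomputable def toZ0 : (TopCat.Presheaf.pullback AddCommGrpCat.{u} g).obj F.obj ⟶ (Z0 F g).obj :=
  kernel.lift _ (pullVal F g) (pullVal_d F g) ≫
    (PreservesKernel.iso (sheafToPresheaf _ AddCommGrpCat.{u}) (godD (lv F g 0))).inv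

lemma toZ0_ι : toZ0 F g ≫ (kernel.ι (godD (lv F g 0))).hom = pullVal F g := by
  rw [toZ0, Category.assoc]
  erw [PreservesKernel.iso_inv_ι]
  exact kernel.lift_ι _ _ _

lemma ι_injective (V : (Opens Y)ᵒᵖ) :
    Function.Injective ((kernel.ι (godD (lv F g 0))).hom.app V) := by
  have : Mono ((sheafToPresheaf (Opens.grothendieckTopology Y) AddCommGrpCat.{u}).map
      (kernel.ι (godD (lv F g 0)))) := inferInstance
  exact (AddCommGrpCat.mono_iff_injective _).1 (inferInstanceAs
    (Mono (((sheafToPresheaf (Opens.grothendieckTopology Y) AddCommGrpCat.{u}).map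
      (kernel.ι (godD (lv F g 0)))).app V)))

lemma toZ0_locInj : Presheaf.IsLocallyInjective (Opens.grothendieckTopology Y) (toZ0 F g) where
  equalizerSieve_mem {V} a b hab := by
    intro y hy
    have h := congrFun (congrArg ((kernel.ι (godD (lv F g 0))).hom.app V) hab) ⟨y, hy⟩
    rw [← ConcreteCategory.comp_apply, ← ConcreteCategory.comp_apply, ← NatTrans.comp_app,
      toZ0_ι] at h
    have hg : ((TopCat.Presheaf.pullback AddCommGrpCat.{u} g).obj F.obj).germ V.unop y hy a =
        ((TopCat.Presheaf.pullback AddCommGrpCat.{u} g).obj F.obj).germ V.unop y hy b := by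
      rw [← TopCat.Presheaf.germToPullbackStalk_stalkPullbackHom AddCommGrpCat.{u} g F.obj V.unop y hy]
      exact congrArg (TopCat.Presheaf.stalkPullbackHom AddCommGrpCat.{u} g F.obj y) h
    obtain ⟨W, hyW, iU, iV, e⟩ := TopCat.Presheaf.germ_eq _ y hy hy a b hg
    refine ⟨W, iU, ?_, hyW⟩
    exact e.trans (congrArg (fun j => ((TopCat.Presheaf.pullback AddCommGrpCat.{u} g).obj F.obj).map j.op b)
      (Subsingleton.elim iV iU))

lemma toZ0_locSurj : Presheaf.IsLocallySurjective (Opens.grothendieckTopology Y) (toZ0 F g) where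
  imageSieve_mem {V} x := by
    intro y hy
    let s := (kernel.ι (godD (lv F g 0))).hom.app (op V) x
    have hs : (godD (lv F g 0)).hom.app (op V) s = 0 :=
      ConcreteCategory.congr_hom (congrArg (fun φ : Z0 F g ⟶ _ => φ.hom.app (op V))
        (kernel.condition (godD (lv F g 0)))) x
    obtain ⟨T, hT, t, ht⟩ := (Lv.d_eq_zero_iff _ _ _).1 (congrFun hs ⟨y, hy⟩)
    obtain ⟨O', hO', hOo, hyO⟩ := eventually_nhds_iff.1 ht
    let O : Opens Y := (⟨O', hOo⟩ ⊓ (Opens.map g).obj T) ⊓ V
    refine ⟨O, homOfLE inf_le_right, ?_, ⟨⟨hyO, hT⟩, hy⟩⟩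
    refine ⟨((TopCat.Presheaf.pullback AddCommGrpCat.{u} g).obj F.obj).map
      (homOfLE (inf_le_left.trans inf_le_right : O ≤ (Opens.map g).obj T)).op
      (((TopCat.Presheaf.pullbackPushforwardAdjunction AddCommGrpCat.{u} g).unit.app F.obj).app
        (op T) t), ι_injective F g (op O) ?_⟩
    rw [← ConcreteCategory.comp_apply, ← NatTrans.comp_app, toZ0_ι]
    conv_rhs => rw [NatTrans.naturality_apply]
    funext z
    refine (pullVal_unit F g T O (inf_le_left.trans inf_le_right) t z.1 z.2).trans ?_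
    rw [← germFam_of_mem F g t z.1 z.2.1.2, ← hO' z.1 z.2.1.1]
    exact ext0_of_mem (lv F g 0) s z.1 z.2.2

/-- The inverse image is the sheaf of cocycles of the first level. -/
noncomputable def pullIsoZ0 : (CohTop.pull g).obj F ≅ Z0 F g :=
  have : Presheaf.IsLocallyInjective (Opens.grothendieckTopology Y) (toZ0 F g) := toZ0_locInj F g
  have : Presheaf.IsLocallySurjective (Opens.grothendieckTopology Y) (toZ0 F g) := toZ0_locSurj F g
  have : IsIso ((presheafToSheaf (Opens.grothendieckTopology Y) AddCommGrpCat.{u}).map (toZ0 F g)) :=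
    ((Opens.grothendieckTopology Y).W_iff (toZ0 F g)).1
      ((Opens.grothendieckTopology Y).W_of_isLocallyBijective (toZ0 F g))
  (TopCat.Sheaf.pullbackIso AddCommGrpCat.{u} g).app F ≪≫
    @asIso _ _ _ _ ((presheafToSheaf (Opens.grothendieckTopology Y) AddCommGrpCat.{u}).map (toZ0 F g)) this ≪≫
    (asIso (sheafificationAdjunction (Opens.grothendieckTopology Y) AddCommGrpCat.{u}).counit).app (Z0 F g)

end Groth.Agent.H30.Gode
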