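import Mathlib.Algebra.Homology.ShortComplex.Ab
import Groth.Agent.H30.AcycChain
import Groth.Agent.H30.Gode.Sheaves
import Groth.Agent.H30.Gode.Rows
import Groth.Agent.Lib.ZarCoh.Compare

/-!
# The complex of global families computes cohomology
-/

universe u

open CategoryTheory Limits TopologicalSpace Opposite Abelian
open Groth.Agent.Lib.ZarCoh.Basic Groth.Agent.Lib.ZarCoh.Compare

namespace Groth.Agent.H30.Gode

variable {S : TopCat.{u}} (F : CohTop.Ab S) {Y : TopCat.{u}} (g : Y ⟶ S)

/-- The differential, indexed by the level. -/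
noncomputable def gd (k : ℕ) : god (lv F g k) ⟶ god (lv F g (k + 1)) := godD (lv F g k)

lemma gd_gd (k : ℕ) : gd F g k ≫ gd F g (k + 1) = 0 := godD_godD (lv F g k)

lemma gd_exact (k : ℕ) : (ShortComplex.mk (gd F g k) (gd F g (k + 1)) (gd_gd F g k)).Exact :=
  godCx_exact F g k

lemma kernel_shortExact (k : ℕ) :
    (ShortComplex.mk (kernel.ι (gd F g k))
      (kernel.lift (gd F g (k + 1)) (gd F g k) (gd_gd F g k))
      (by rw [← cancel_mono (kernel.ι _)]; simp [kernel.condition])).ShortExact where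
  exact := by
    refine ShortComplex.exact_of_f_is_kernel _ ?_
    refine KernelFork.IsLimit.ofι' _ _ fun a ha => ⟨kernel.lift (gd F g k) a ?_,
      kernel.lift_ι _ _ _⟩
    have := congrArg (· ≫ kernel.ι (gd F g (k + 1))) ha
    simpa using this
  mono_f := inferInstanceAs (Mono (kernel.ι _))
  epi_g := (gd_exact F g k).epi_kernelLift

/-- The chain of cocycles of the resolution. -/
noncomputable def chain : AcycChain.Chain.{u} (Zs.obj (⊤ : Opens Y)) ((CohTop.pull g).obj F) where
  cyc k := kernel (gd F g k)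
  X k := god (lv F g k)
  i k := kernel.ι _
  p k := kernel.lift (gd F g (k + 1)) (gd F g k) (gd_gd F g k)
  w k := by rw [← cancel_mono (kernel.ι _)]; simp [kernel.condition]
  shortExact := kernel_shortExact F g
  acyclic k n := HU_flasque (god (lv F g k)) ⊤ n
  iso₀ := pullIsoZ0 F g

/-- Global families as sections. -/
noncomputable def secEquiv (n : ℕ) : (Zs.obj (⊤ : Opens Y) ⟶ god (lv F g n)) ≃+ (lv F g n).Fn :=
  (AddEquiv.mk' (homEquiv ⊤ (god (lv F g n))) homEquiv_add).trans
    { toFun := fun s y => s ⟨y, trivial⟩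
      invFun := fun φ y => φ y.1
      left_inv := fun _ => rfl
      right_inv := fun _ => rfl
      map_add' := fun _ _ => rfl }

lemma secEquiv_d (n : ℕ) (a : Zs.obj (⊤ : Opens Y) ⟶ god (lv F g n)) :
    secEquiv F g (n + 1) (a ≫ gd F g n) = (lv F g n).d' (secEquiv F g n a) := by
  funext y
  change homEquiv ⊤ _ (a ≫ gd F g n) ⟨y, trivial⟩ = _
  rw [homEquiv_comp]
  exact (lv F g n).d_congr (Filter.Eventually.of_forall fun z =>
    ext0_of_mem (lv F g n) _ z (show z ∈ (⊤ : Opens Y) from trivial))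

/-- Global cocycles as morphisms. -/
noncomputable def cycEquiv (n : ℕ) :
    (Zs.obj (⊤ : Opens Y) ⟶ kernel (gd F g n)) ≃+ AddMonoidHom.ker (lv F g n).d' where
  toFun a := ⟨secEquiv F g n (a ≫ kernel.ι _), by
    rw [AddMonoidHom.mem_ker, ← secEquiv_d, Category.assoc, kernel.condition, comp_zero, map_zero]
    rfl⟩
  invFun φ := kernel.lift _ ((secEquiv F g n).symm φ.1) ((secEquiv F g (n + 1)).injective (by
    rw [secEquiv_d, AddEquiv.apply_symm_apply, map_zero]
    exact φ.2))
  left_inv a := by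
    rw [← cancel_mono (kernel.ι _), kernel.lift_ι]
    exact AddEquiv.symm_apply_apply _ _
  right_inv φ := Subtype.ext (by simp)
  map_add' a b := Subtype.ext (by simp [Preadditive.add_comp])

/-- Cocycles give classes. -/
noncomputable def cls (n : ℕ) :
    AddMonoidHom.ker (lv F g n).d' →+ CohTop.H ((CohTop.pull g).obj F) n :=
  ((hTop ((CohTop.pull g).obj F) n).symm.toAddMonoidHom.comp
    (AcycChain.toExt (chain F g) n)).comp (cycEquiv F g n).symm.toAddMonoidHom

lemma cls_surjective (n : ℕ) : Function.Surjective (cls F g n) :=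
  (hTop _ n).symm.surjective.comp
    ((AcycChain.toExt_surjective (chain F g) n).comp (cycEquiv F g n).symm.surjective)

lemma cls_zero_injective : Function.Injective (cls F g 0) :=
  (hTop _ 0).symm.injective.comp
    ((AcycChain.toExt_zero_bijective (chain F g)).1.comp (cycEquiv F g 0).symm.injective)

lemma cls_succ_eq_zero_iff (n : ℕ) (φ : AddMonoidHom.ker (lv F g (n + 1)).d') :
    cls F g (n + 1) φ = 0 ↔ ∃ ψ, (lv F g n).d' ψ = φ.1 := by
  change (hTop _ _).symm (AcycChain.toExt (chain F g) (n + 1) ((cycEquiv F g (n + 1)).symm φ)) = 0 ↔ _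
  rw [map_eq_zero_iff _ (hTop _ _).symm.injective, AcycChain.toExt_succ_eq_zero_iff]
  constructor
  · rintro ⟨i, hi⟩
    refine ⟨secEquiv F g n i, ?_⟩
    rw [← secEquiv_d, ← congrArg Subtype.val ((cycEquiv F g (n + 1)).apply_symm_apply φ), ← hi]
    change _ = secEquiv F g (n + 1) ((i ≫ kernel.lift _ _ _) ≫ kernel.ι _)
    rw [Category.assoc, kernel.lift_ι]
    rfl
  · rintro ⟨ψ, hψ⟩
    refine ⟨(secEquiv F g n).symm ψ, (cycEquiv F g (n + 1)).injective (Subtype.ext ?_)⟩
    rw [AddEquiv.apply_symm_apply, ← hψ]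
    change secEquiv F g (n + 1) ((_ ≫ kernel.lift _ _ _) ≫ kernel.ι _) = _
    rw [Category.assoc, kernel.lift_ι]
    exact (secEquiv_d F g n ((secEquiv F g n).symm ψ)).trans
      (congrArg _ ((secEquiv F g n).apply_symm_apply ψ))

/-- The complex of global families. -/
noncomputable def fnCx (T : (Over S)ᵒᵖ) : CochainComplex AddCommGrpCat.{u} ℕ :=
  CochainComplex.of (fun n => (fnF F n).obj T) (fun n => (dNat F n).app T) fun n =>
    congrArg (fun α : fnF F n ⟶ fnF F (n + 1 + 1) => α.app T) (dNat_dNat F n)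

/-- Homology of the complex of global families from classes, in degree zero. -/
theorem nonempty_homology_zero (T : Over S) (M : AddCommGrpCat.{u})
    (c : AddMonoidHom.ker (lv F T.hom 0).d' →+ M) (hc : Function.Bijective c) :
    Nonempty ((fnCx F (op T)).homology 0 ≅ M) := by
  let K := fnCx F (op T)
  have hd : ∀ m, K.d m (m + 1) = (dNat F m).app (op T) := fun m => by simp [K, fnCx]
  let e : AddMonoidHom.ker (K.sc' 0 0 1).g.hom ≃+ AddMonoidHom.ker (lv F T.hom 0).d' :=
    AddEquiv.addSubgroupCongr (by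
      change AddMonoidHom.ker (K.d 0 1).hom = _
      rw [hd 0]; rfl)
  have hr : AddMonoidHom.range (K.sc' 0 0 1).abToCycles = ⊥ := by
    rw [eq_bot_iff]
    rintro _ ⟨x, rfl⟩
    refine Subtype.ext ?_
    change K.d 0 0 x = 0
    rw [K.shape 0 0 (by simp)]
    rfl
  exact ⟨K.homologyIsoSc' 0 0 1 (by simp) (by simp) ≪≫ (K.sc' 0 0 1).abHomologyIso ≪≫
    (((QuotientAddGroup.quotientAddEquivOfEq hr).trans QuotientAddGroup.quotientBot).trans
      (e.trans (AddEquiv.ofBijective c hc))).toAddCommGrpIso⟩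

/-- Homology of the complex of global families from classes, in positive degree. -/
theorem nonempty_homology_succ (T : Over S) (n : ℕ) (M : AddCommGrpCat.{u})
    (c : AddMonoidHom.ker (lv F T.hom (n + 1)).d' →+ M) (hc : Function.Surjective c)
    (h0 : ∀ φ, c φ = 0 ↔ ∃ ψ, (lv F T.hom n).d' ψ = φ.1) :
    Nonempty ((fnCx F (op T)).homology (n + 1) ≅ M) := by
  let K := fnCx F (op T)
  have hd : ∀ m, K.d m (m + 1) = (dNat F m).app (op T) := fun m => by simp [K, fnCx]
  let e : AddMonoidHom.ker (K.sc' n (n + 1) (n + 1 + 1)).g.hom ≃+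
      AddMonoidHom.ker (lv F T.hom (n + 1)).d' :=
    AddEquiv.addSubgroupCongr (by
      change AddMonoidHom.ker (K.d (n + 1) (n + 1 + 1)).hom = _
      rw [hd (n + 1)]; rfl)
  let c' := c.comp e.toAddMonoidHom
  have hr : AddMonoidHom.range (K.sc' n (n + 1) (n + 1 + 1)).abToCycles = c'.ker := by
    ext φ
    refine Iff.trans ?_ (h0 (e φ)).symm
    constructor
    · rintro ⟨x, rfl⟩
      exact ⟨x, (ConcreteCategory.congr_hom (hd n) x).symm⟩
    · rintro ⟨x, hx⟩
      refine ⟨x, Subtype.ext ?_⟩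
      exact (ConcreteCategory.congr_hom (hd n) (x : (fnF F n).obj (op T))).trans hx
  exact ⟨K.homologyIsoSc' n (n + 1) (n + 1 + 1) (by simp) (by simp) ≪≫
    (K.sc' n (n + 1) (n + 1 + 1)).abHomologyIso ≪≫
    ((QuotientAddGroup.quotientAddEquivOfEq hr).trans
      (QuotientAddGroup.quotientKerEquivOfSurjective c' (hc.comp e.surjective))).toAddCommGrpIso⟩

/-- It computes cohomology. -/
theorem nonempty_fnCxIso (T : Over S) (n : ℕ) :
    Nonempty ((fnCx F (op T)).homology n ≅ AddCommGrpCat.of (CohTop.H ((CohTop.pull T.hom).obj F) n)) := by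
  cases n with
  | zero =>
    exact nonempty_homology_zero F T (AddCommGrpCat.of (CohTop.H ((CohTop.pull T.hom).obj F) 0))
      (cls F T.hom 0) ⟨cls_zero_injective F T.hom, cls_surjective F T.hom 0⟩
  | succ n =>
    exact nonempty_homology_succ F T n
      (AddCommGrpCat.of (CohTop.H ((CohTop.pull T.hom).obj F) (n + 1))) (cls F T.hom (n + 1))
      (cls_surjective F T.hom (n + 1)) (cls_succ_eq_zero_iff F T.hom n)

end Groth.Agent.H30.Gode
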