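import Groth.Agent.H30.E1.Double
import Groth.Agent.H30.Gode.Coho

/-!
# The descent spectral sequence of a locally contractible augmented simplicial space
-/

universe u

open CategoryTheory Limits TopologicalSpace Opposite Simplicial Abelian

namespace Groth.Agent.H30.Gode

variable {S : TopCat.{u}} (F : CohTop.Ab S) (K : SimplicialObject (Over S))

/-- The map of rows. -/
noncomputable def rowD (q : ℕ) : row F K q ⟶ row F K (q + 1) :=
  (AlgebraicTopology.alternatingCofaceMapComplex AddCommGrpCat.{u}).map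
    (Functor.whiskerLeft K.rightOp (dNat F q))

lemma rowD_f (q p : ℕ) : (rowD F K q).f p = (dNat F q).app (op (K _⦋p⦌)) := rfl

/-- The double complex. -/
noncomputable def dbl : CochainComplex (CochainComplex AddCommGrpCat.{u} ℕ) ℕ :=
  CochainComplex.of (fun q => row F K q) (rowD F K) fun q => by
    ext p : 1
    exact congrArg (fun α : fnF F q ⟶ fnF F (q + 1 + 1) => α.app (op (K _⦋p⦌))) (dNat_dNat F q)

/-- The columns. -/
noncomputable def colIso (p : ℕ) : E1.col (dbl F K) p ≅ fnCx F (op (K _⦋p⦌)) :=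
  HomologicalComplex.Hom.isoOfComponents (fun q => Iso.refl _) (by
    rintro q _ rfl
    refine (Category.id_comp _).trans (Eq.trans ?_ (Category.comp_id _).symm)
    simp only [fnCx, dbl, E1.col, Functor.mapHomologicalComplex_obj_d, CochainComplex.of_d]
    rfl)

/-- The augmentation as a morphism. -/
noncomputable def augHom (q : ℕ) :
    (fnF F q).obj (op (Over.mk (𝟙 S))) ⟶ (row F K q).X 0 :=
  (fnF F q).map (Over.homMk (K _⦋0⦌).hom (Category.comp_id _) : K _⦋0⦌ ⟶ Over.mk (𝟙 S)).op

lemma row_d_zero (q : ℕ) (c : (lv F (K _⦋0⦌).hom q).Fn) :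
    (row F K q).d 0 1 c = pb F q (K.δ 0) c - pb F q (K.δ (1 : Fin 2)) c := by
  refine (row_d_apply F K q 0 c).trans ?_
  rw [Fin.sum_univ_two, sub_eq_add_neg]
  simp
  try rfl

lemma augHom_d (q : ℕ) : augHom F K q ≫ (row F K q).d 0 1 = 0 := by
  ext φ : 2
  refine (row_d_zero F K q _).trans ?_
  exact sub_eq_zero.2 (aug_cocycle φ)

/-- The rows are exact and augmented by the global families of the base. -/
structure RowsExact : Prop where
  inj : ∀ q, Function.Injective (aug (F := F) (K := K) q)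
  ker : ∀ (q : ℕ) (c : (lv F (K _⦋0⦌).hom q).Fn),
    pb F q (K.δ 0) c = pb F q (K.δ (1 : Fin 2)) c → ∃ φ, aug q φ = c
  exact : ∀ (q p : ℕ) (c : (lv F (K _⦋p + 1⦌).hom q).Fn),
    (row F K q).d (p + 1) (p + 1 + 1) c = 0 → ∃ b, (row F K q).d p (p + 1) b = c

/-- Local contractions make the rows exact. -/
theorem rowsExact_of_contr {K : SimplicialObject (Over S)} (C : ∀ s, Contr K s) : RowsExact F K :=
  ⟨fun _ => aug_injective C, fun _ => exists_aug C, fun _ => row_exact C⟩

variable {K} (C : RowsExact F K)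

include C in
theorem augHom_exact (q : ℕ) :
    (ShortComplex.mk (augHom F K q) ((row F K q).d 0 1) (augHom_d F K q)).Exact := by
  rw [ShortComplex.ab_exact_iff]
  intro c hc
  obtain ⟨φ, hφ⟩ := C.ker q c (sub_eq_zero.1 ((row_d_zero F K q c).symm.trans hc))
  exact ⟨φ, hφ⟩

include C in
theorem augHom_mono (q : ℕ) : Mono (augHom F K q) :=
  (AddCommGrpCat.mono_iff_injective _).2 (C.inj q)

variable (K) in
/-- The comparison with the cohomology of the rows in degree zero. -/
noncomputable def toH0 (q : ℕ) :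
    (fnF F q).obj (op (Over.mk (𝟙 S))) ⟶ (row F K q).homology 0 :=
  (row F K q).liftCycles (augHom F K q) 1 (by simp) (augHom_d F K q) ≫ (row F K q).homologyπ 0

include C in
theorem isIso_toH0 (q : ℕ) : IsIso (toH0 F K q) := by
  have := augHom_mono F C q
  let h := (augHom_exact F C q).fIsKernel
  let e := h.conePointUniqueUpToIso ((row F K q).cyclesIsKernel 0 1 (by simp))
  have he : (row F K q).liftCycles (augHom F K q) 1 (by simp) (augHom_d F K q) = e.hom := by
    rw [← cancel_mono ((row F K q).iCycles 0), HomologicalComplex.liftCycles_i]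
    exact (IsLimit.conePointUniqueUpToIso_hom_comp h _ WalkingParallelPair.zero).symm
  rw [toH0, he]
  haveI : IsIso ((row F K q).homologyπ 0) :=
    (row F K q).isIso_homologyπ 0 0 (by simp) ((row F K q).shape 0 0 (by simp))
  infer_instance

lemma augHom_naturality (q : ℕ) :
    augHom F K q ≫ (rowD F K q).f 0 = (dNat F q).app (op (Over.mk (𝟙 S))) ≫ augHom F K (q + 1) :=
  (dNat F q).naturality _

lemma toH0_naturality (q : ℕ) :
    toH0 F K q ≫ HomologicalComplex.homologyMap (rowD F K q) 0 =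
      (dNat F q).app (op (Over.mk (𝟙 S))) ≫ toH0 F K (q + 1) := by
  rw [toH0, toH0, Category.assoc, HomologicalComplex.homologyπ_naturality, ← Category.assoc,
    ← Category.assoc]
  congr 1
  rw [← cancel_mono ((row F K (q + 1)).iCycles 0)]
  simp only [Category.assoc, HomologicalComplex.cyclesMap_i, HomologicalComplex.liftCycles_i,
    HomologicalComplex.liftCycles_i_assoc, augHom_naturality]

/-- The base. -/
noncomputable def rowsH0Iso : fnCx F (op (Over.mk (𝟙 S))) ≅ E1.rowsH0 (dbl F K) :=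
  HomologicalComplex.Hom.isoOfComponents
    (fun q => @asIso _ _ _ _ (toH0 F K q) (isIso_toH0 F C q)) (by
    rintro q _ rfl
    simp only [asIso_hom, fnCx, dbl, E1.rowsH0, Functor.mapHomologicalComplex_obj_d,
      CochainComplex.of_d]
    exact toH0_naturality F q)

/-- Inverse image along the identity. -/
noncomputable def pullIdIso : (CohTop.pull (𝟙 S)).obj F ≅ F :=
  ((TopCat.Sheaf.pullbackPushforwardAdjunction AddCommGrpCat.{u} (𝟙 S)).leftAdjointUniq
    (Adjunction.id.ofNatIsoRight (NatIso.ofComponents (fun G => Iso.refl G) :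
      𝟭 (CohTop.Ab S) ≅ CohTop.push (𝟙 S)))).app F

/-- Cohomology respects isomorphisms. -/
noncomputable def hIso {X : TopCat.{u}} {G G' : CohTop.Ab X} (e : G ≅ G') (n : ℕ) :
    AddCommGrpCat.of (CohTop.H G n) ≅ AddCommGrpCat.of (CohTop.H G' n) where
  hom := AddCommGrpCat.ofHom ((Ext.mk₀ e.hom).postcomp _ (add_zero n))
  inv := AddCommGrpCat.ofHom ((Ext.mk₀ e.inv).postcomp _ (add_zero n))
  hom_inv_id := by
    ext x
    change (Ext.comp (Ext.comp x (Ext.mk₀ e.hom) (add_zero n)) (Ext.mk₀ e.inv) (add_zero n)) = x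
    rw [Ext.comp_assoc_of_second_deg_zero, Ext.mk₀_comp_mk₀, e.hom_inv_id, Ext.comp_mk₀_id]
  inv_hom_id := by
    ext x
    change (Ext.comp (Ext.comp x (Ext.mk₀ e.inv) (add_zero n)) (Ext.mk₀ e.hom) (add_zero n)) = x
    rw [Ext.comp_assoc_of_second_deg_zero, Ext.mk₀_comp_mk₀, e.inv_hom_id, Ext.comp_mk₀_id]

include C in
/-- The descent spectral sequence, with prescribed first page. -/
theorem exists_descent_of_rowsExact (P : ℤ → ℤ → AddCommGrpCat.{u})
    (eP : ∀ p q : ℕ, Nonempty ((fnCx F (op (K _⦋p⦌))).homology q ≅ P p q))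
    (hP : ∀ p q : ℤ, ¬ (0 ≤ p ∧ 0 ≤ q) → IsZero (P p q)) :
    ∃ (E : CohomologicalSpectralSequence AddCommGrpCat.{u} 1)
      (a : SpSeq.Abutment E (fun n : ℤ =>
        if 0 ≤ n then AddCommGrpCat.of (CohTop.H F n.toNat) else AddCommGrpCat.of PUnit.{u + 1})),
      (∀ n, a.IsFinite n) ∧ SpSeq.IsBounded E ∧
      ∀ p q : ℤ, Nonempty ((E.page 1 le_rfl).X (p, q) ≅ P p q) := by
  have hz : IsZero (AddCommGrpCat.of PUnit.{u + 1}) := AddCommGrpCat.isZero_of_subsingleton _
  refine E1.exists_spectralSequence (dbl F K) (fun q p => ?_) _ (fun n => ?_) (fun n hn => ?_)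
    P (fun p q => ?_) hP
  · refine (HomologicalComplex.exactAt_iff_isZero_homology _ _).1 ?_
    rw [HomologicalComplex.exactAt_iff' _ p (p + 1) (p + 1 + 1) (by simp) (by simp),
      ShortComplex.ab_exact_iff]
    intro c hc
    exact C.exact q p c hc
  · obtain ⟨e⟩ := nonempty_fnCxIso F (Over.mk (𝟙 S)) n
    refine ⟨(HomologicalComplex.homologyFunctor _ _ n).mapIso (rowsH0Iso F C).symm ≪≫ e ≪≫
      hIso (pullIdIso F) n ≪≫ eqToIso ?_⟩
    rw [if_pos (Int.natCast_nonneg n), Int.toNat_natCast]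
  · rw [if_neg (by lia)]
    exact hz
  · obtain ⟨e⟩ := eP p q
    exact ⟨(HomologicalComplex.homologyFunctor _ _ q).mapIso (colIso F K p) ≪≫ e⟩

/-- **The descent spectral sequence.** -/
theorem exists_descent (C : ∀ s, Contr K s) :
    ∃ (E : CohomologicalSpectralSequence AddCommGrpCat.{u} 1)
      (a : SpSeq.Abutment E (fun n : ℤ =>
        if 0 ≤ n then AddCommGrpCat.of (CohTop.H F n.toNat) else AddCommGrpCat.of PUnit.{u + 1})),
      (∀ n, a.IsFinite n) ∧ SpSeq.IsBounded E ∧
      ∀ p q : ℤ, Nonempty ((E.page 1 le_rfl).X (p, q) ≅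
        (if 0 ≤ p ∧ 0 ≤ q then
          AddCommGrpCat.of (CohTop.H ((CohTop.pull (K _⦋p.toNat⦌).hom).obj F) q.toNat)
         else AddCommGrpCat.of PUnit.{u + 1})) := by
  refine exists_descent_of_rowsExact F (rowsExact_of_contr F C) _ (fun p q => ?_) fun p q hpq => ?_
  · obtain ⟨e⟩ := nonempty_fnCxIso F (K _⦋p⦌) q
    refine ⟨e ≪≫ eqToIso ?_⟩
    rw [if_pos ⟨Int.natCast_nonneg p, Int.natCast_nonneg q⟩, Int.toNat_natCast, Int.toNat_natCast]
  · rw [if_neg hpq]
    exact AddCommGrpCat.isZero_of_subsingleton _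

end Groth.Agent.H30.Gode
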