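import Groth.Agent.H30.Gode.Germs

/-!
# Exactness of the rows of a locally finite closed covering
-/

universe u

open CategoryTheory Filter Topology TopologicalSpace Opposite Simplicial

namespace Groth.Agent.H30.Gode.ClosedCover

variable {S : TopCat.{u}} (F : CohTop.Ab S) {I : Type u} (U : I → Set S)

/-- The intersection. -/
abbrev Tp {p : ℕ} (σ : Fin (p + 1) → I) : Over S :=
  Over.mk (TopCat.ofHom ⟨Subtype.val, continuous_subtype_val⟩ :
    TopCat.of (⋂ k, U (σ k) : Set S) ⟶ S)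

/-- Deleting an index. -/
def r {p : ℕ} (τ : Fin (p + 2) → I) (i : Fin (p + 2)) : Tp U τ ⟶ Tp U (τ ∘ i.succAbove) :=
  Over.homMk (TopCat.ofHom ⟨Set.inclusion (fun _ h => Set.mem_iInter.2 fun k =>
    Set.mem_iInter.1 h (i.succAbove k)), continuous_inclusion _⟩) rfl

/-- The map to the whole space. -/
def toTop {p : ℕ} (σ : Fin (p + 1) → I) : Tp U σ ⟶ Over.mk (𝟙 S) :=
  Over.homMk (Tp U σ).hom (Category.comp_id _)

/-- Families on all intersections. -/
abbrev Fam (q p : ℕ) : Type u := ∀ σ : Fin (p + 1) → I, (lv F (Tp U σ).hom q).Fn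

variable {F U}

/-- The Čech differential. -/
noncomputable def δ (q p : ℕ) : Fam F U q p →+ Fam F U q (p + 1) where
  toFun c τ := ∑ i : Fin (p + 2), ((-1 : ℤ) ^ (i : ℕ)) • pb F q (r U τ i) (c (τ ∘ i.succAbove))
  map_zero' := funext fun τ => by simp
  map_add' a b := funext fun τ => by simp [Finset.sum_add_distrib]

/-- The augmentation. -/
noncomputable def η (q : ℕ) : (lv F (Over.mk (𝟙 S)).hom q).Fn →+ Fam F U q 0 where
  toFun φ σ := pb F q (toTop U σ) φ
  map_zero' := funext fun σ => map_zero _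
  map_add' a b := funext fun σ => map_add _ _ _

/-- Agreement at a point. -/
def EqAt {q p : ℕ} (z : S) (c c' : Fam F U q p) : Prop :=
  ∀ (σ : Fin (p + 1) → I) (h : z ∈ (⋂ k, U (σ k) : Set S)), c σ ⟨z, h⟩ = c' σ ⟨z, h⟩

lemma δ_apply (q p : ℕ) (c : Fam F U q p) (τ : Fin (p + 2) → I) (y : (Tp U τ).left) :
    δ q p c τ y = ∑ i : Fin (p + 2), ((-1 : ℤ) ^ (i : ℕ)) •
      (hom F (r U τ i).left (Over.w (r U τ i)) q).m y (c (τ ∘ i.succAbove) ((r U τ i).left y)) :=
  by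
    change (∑ i : Fin (p + 2), ((-1 : ℤ) ^ (i : ℕ)) • pb F q (r U τ i) (c (τ ∘ i.succAbove))) y = _
    rw [Finset.sum_apply]
    rfl

lemma EqAt.δ {q p : ℕ} {z : S} {c c' : Fam F U q p} (h : EqAt z c c') :
    EqAt z (ClosedCover.δ q p c) (ClosedCover.δ q p c') := fun τ hz => by
  rw [δ_apply, δ_apply]
  refine Finset.sum_congr rfl fun i _ => congrArg _ (congrArg _ ?_)
  exact h _ _

variable (U) in
/-- The disjoint unions of the intersections. -/
noncomputable def sigmaNerve : SimplicialObject (Over S) where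
  obj n := Over.mk (TopCat.ofHom
    ⟨fun y : (Σ σ : Fin (n.unop.len + 1) → I, ((⋂ k, U (σ k)) : Set S)) => y.2.1,
      continuous_sigma fun _ => continuous_subtype_val⟩ :
    TopCat.of (Σ σ : Fin (n.unop.len + 1) → I, ((⋂ k, U (σ k)) : Set S)) ⟶ S)
  map {n m} g := Over.homMk (TopCat.ofHom
    ⟨fun y => ⟨y.1 ∘ g.unop.toOrderHom, ⟨y.2.1, Set.mem_iInter.2 fun k =>
        Set.mem_iInter.1 y.2.2 (g.unop.toOrderHom k)⟩⟩,
      continuous_sigma fun σ => (continuous_sigmaMk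
        (σ := fun σ' : Fin (m.unop.len + 1) → I => ((⋂ k, U (σ' k)) : Set S))
        (i := σ ∘ g.unop.toOrderHom)).comp
        (continuous_subtype_val.subtype_mk fun h => Set.mem_iInter.2 fun k =>
          Set.mem_iInter.1 h.2 (g.unop.toOrderHom k))⟩) rfl
  map_id n := rfl
  map_comp g g' := rfl

variable (U) in
/-- A component. -/
noncomputable def ι {p : ℕ} (σ : Fin (p + 1) → I) : Tp U σ ⟶ (sigmaNerve U) _⦋p⦌ :=
  Over.homMk (TopCat.ofHom (ContinuousMap.sigmaMk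
    (X := fun σ' : Fin (p + 1) → I => ((⋂ k, U (σ' k)) : Set S)) σ) :
      (Tp U σ).left ⟶ ((sigmaNerve U) _⦋p⦌).left) rfl

lemma isOpenEmbedding_ι {p : ℕ} (σ : Fin (p + 1) → I) : IsOpenEmbedding (ι U σ).left :=
  IsOpenEmbedding.sigmaMk (σ := fun σ' : Fin (p + 1) → I => ((⋂ k, U (σ' k)) : Set S)) (i := σ)

lemma ι_δ {p : ℕ} (τ : Fin (p + 2) → I) (i : Fin (p + 2)) :
    ι U τ ≫ (sigmaNerve U).δ i = r U τ i ≫ ι U (τ ∘ i.succAbove) := rfl

/-- Families on the disjoint union are families on the components. -/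
noncomputable def R (q p : ℕ) : (lv F ((sigmaNerve U) _⦋p⦌).hom q).Fn →+ Fam F U q p where
  toFun c σ := pb F q (ι U σ) c
  map_zero' := funext fun σ => map_zero _
  map_add' a b := funext fun σ => map_add _ _ _

lemma R_bijective (q p : ℕ) : Function.Bijective (R (F := F) (U := U) q p) := by
  refine ⟨fun a b e => funext fun y => ?_, fun c => ?_⟩
  · exact pb_eq_at (ι U y.1) (isOpenEmbedding_ι y.1) y.2 (congrFun (congrFun e y.1) y.2)
  · choose x hx using fun (σ : Fin (p + 1) → I) (y : (Tp U σ).left) =>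
      (hom_bijective F (ι U σ).left (Over.w (ι U σ)) (isOpenEmbedding_ι σ) q y).2 (c σ y)
    exact ⟨fun y => x y.1 y.2, funext fun σ => funext fun y => hx σ y⟩

lemma R_d (q p : ℕ) (c : (lv F ((sigmaNerve U) _⦋p⦌).hom q).Fn) :
    R q (p + 1) ((row F (sigmaNerve U) q).d p (p + 1) c) = δ q p (R q p c) := by
  funext τ
  change pb F q (ι U τ) _ = ∑ i : Fin (p + 2), _
  rw [row_d_apply, map_sum]
  refine Finset.sum_congr rfl fun i _ => ?_
  rw [map_zsmul]
  refine congrArg (((-1 : ℤ) ^ (i : ℕ)) • ·) ?_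
  change _ = pb F q (r U τ i) (pb F q (ι U (τ ∘ i.succAbove)) c)
  rw [pb_comp, pb_comp, ι_δ]

lemma δ_δ (q p : ℕ) (φ : Fam F U q p) : δ q (p + 1) (δ q p φ) = 0 := by
  obtain ⟨c, rfl⟩ := (R_bijective (F := F) (U := U) q p).2 φ
  rw [← R_d, ← R_d, ← ConcreteCategory.comp_apply, HomologicalComplex.d_comp_d]
  exact map_zero _

/-- The differential of the resolution on families. -/
noncomputable def dQ (q p : ℕ) : Fam F U q p →+ Fam F U (q + 1) p where
  toFun c σ := (lv F (Tp U σ).hom q).d' (c σ)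
  map_zero' := funext fun σ => map_zero _
  map_add' a b := funext fun σ => map_add _ _ _

lemma dQ_δ (q p : ℕ) (c : Fam F U q p) : dQ q (p + 1) (δ q p c) = δ (q + 1) p (dQ q p c) := by
  funext τ
  change (lv F (Tp U τ).hom q).d' (∑ i : Fin (p + 2), _) = _
  rw [map_sum]
  refine Finset.sum_congr rfl fun i _ => ?_
  rw [map_zsmul]
  rfl

variable (hU : ∀ i, IsClosed (U i)) (hlf : LocallyFinite U) (hcov : ⋃ i, U i = Set.univ)

/-- The statement at one level. -/
structure PointExact (F : CohTop.Ab S) (U : I → Set S) (q : ℕ) : Prop where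
  inj : ∀ (z : S) (φ : (lv F (Over.mk (𝟙 S)).hom q).Fn), EqAt z (η (U := U) q φ) 0 → φ z = 0
  ker : ∀ (z : S) (c : Fam F U q 0), EqAt z (δ q 0 c) 0 → ∃ φ, EqAt z (η q φ) c
  exact : ∀ (p : ℕ) (z : S) (c : Fam F U q (p + 1)), EqAt z (δ q (p + 1) c) 0 →
    ∃ b, EqAt z (δ q p b) c

include hU hlf in
/-- Properties of finitely many families hold near a point. -/
lemma eventually_eqAt {q p : ℕ} (x : S) (c : Fam F U q p)
    (h : ∀ (σ : Fin (p + 1) → I) (hx : x ∈ (⋂ k, U (σ k) : Set S)),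
      ∀ᶠ y in 𝓝 (⟨x, hx⟩ : (Tp U σ).left), c σ y = 0) :
    ∀ᶠ z in 𝓝 x, EqAt z c 0 := by
  have : Finite {i | x ∈ U i} := (hlf.point_finite x).to_subtype
  have h1 : ∀ τ : Fin (p + 1) → {i | x ∈ U i}, ∀ᶠ z in 𝓝 x,
      ∀ hz : z ∈ (⋂ k, U (τ k).1 : Set S), c (fun k => (τ k).1) ⟨z, hz⟩ = 0 := fun τ => by
    have h' := h (fun k => (τ k).1) (Set.mem_iInter.2 fun k => (τ k).2)
    rw [nhds_subtype, eventually_comap] at h'
    exact h'.mono fun z hz hz' => hz ⟨z, hz'⟩ rfl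
  filter_upwards [eventually_all.2 h1, hlf.iInter_compl_mem_nhds hU x] with z hz hz' σ hσ
  have hmem : ∀ k, x ∈ U (σ k) := fun k => by
    by_contra hk
    exact Set.mem_iInter₂.1 hz' (σ k) hk (Set.mem_iInter.1 hσ k)
  exact hz (fun k => ⟨σ k, hmem k⟩) hσ

include hU hlf in
/-- Cocycles lift to families which are cocycles nearby. -/
lemma exists_lift {q p : ℕ} (hq : PointExact F U q) (x : S) (c : Fam F U (q + 1) p)
    (hc : EqAt x (δ (q + 1) p c) 0) :
    ∃ φ : Fam F U q p, EqAt x (dQ q p φ) c ∧ ∀ᶠ z in 𝓝 x, EqAt z (δ q p φ) 0 := by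
  classical
  choose φ0 hφ0 using fun (σ : Fin (p + 1) → I) (h : x ∈ (⋂ k, U (σ k) : Set S)) =>
    QuotientAddGroup.mk'_surjective _ (c σ ⟨x, h⟩)
  let φ : Fam F U q p := fun σ => if h : x ∈ (⋂ k, U (σ k) : Set S) then φ0 σ h else 0
  have hφ : EqAt x (dQ q p φ) c := fun σ h => by
    refine Eq.trans ?_ (hφ0 σ h)
    simp only [φ, dQ, AddMonoidHom.coe_mk, ZeroHom.coe_mk, dif_pos h]
    rfl
  have hN : ∀ τ (h : x ∈ (⋂ k, U (τ k) : Set S)),
      δ q p φ τ ∈ (lv F (Tp U τ).hom q).N ⟨x, h⟩ := fun τ h => by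
    refine (Lv.d_eq_zero_iff _ _ _).1 ?_
    refine (congrFun (congrFun (dQ_δ q p φ) τ) ⟨x, h⟩).trans ?_
    exact (hφ.δ τ h).trans (hc τ h)
  obtain ⟨w, hw⟩ := hq.exact p x (δ q p φ) (fun σ h => by rw [δ_δ])
  choose ψ0 hψ0 hψ0' using fun (σ : Fin (p + 1) → I) (h : x ∈ (⋂ k, U (σ k) : Set S)) =>
    exists_mem_N F (Tp U σ).hom q (⟨x, h⟩ : (Tp U σ).left) (w σ ⟨x, h⟩)
  let ψ : Fam F U q p := fun σ => if h : x ∈ (⋂ k, U (σ k) : Set S) then ψ0 σ h else 0
  have hψ : ∀ σ (h : x ∈ (⋂ k, U (σ k) : Set S)), ψ σ ∈ (lv F (Tp U σ).hom q).N ⟨x, h⟩ ∧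
      ψ σ ⟨x, h⟩ = w σ ⟨x, h⟩ := fun σ h => by
    simp only [ψ, dif_pos h]
    exact ⟨hψ0 σ h, hψ0' σ h⟩
  refine ⟨φ - ψ, fun σ h => ?_, eventually_eqAt hU hlf x _ fun τ h => ?_⟩
  · rw [map_sub]
    change (lv F (Tp U σ).hom q).d (φ σ) ⟨x, h⟩ - (lv F (Tp U σ).hom q).d (ψ σ) ⟨x, h⟩ = _
    rw [(Lv.d_eq_zero_iff _ _ _).2 (hψ σ h).1, sub_zero]
    exact hφ σ h
  · refine eventually_zero_of_mem_N F (Tp U τ).hom q ⟨x, h⟩ _ ?_ ?_
    · rw [map_sub]
      refine sub_mem (hN τ h) ?_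
      change (∑ i : Fin (p + 2), ((-1 : ℤ) ^ (i : ℕ)) • pb F q (r U τ i) (ψ (τ ∘ i.succAbove))) ∈ _
      refine sum_mem fun i _ => zsmul_mem ?_ _
      exact (hom F (r U τ i).left (Over.w (r U τ i)) q).compat ⟨x, h⟩ _ (hψ _ _).1
    · rw [map_sub]
      refine sub_eq_zero.2 ?_
      have hψw : EqAt x ψ w := fun σ hσ => (hψ σ hσ).2
      exact ((hψw.δ τ h).trans (hw τ h)).symm

include hcov in
lemma exists_mem (z : S) : ∃ i, z ∈ U i := Set.mem_iUnion.1 (hcov ▸ Set.mem_univ z)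

lemma fam_zero_congr {p : ℕ} (c : Fam F U 0 p) {σ σ' : Fin (p + 1) → I} (e : σ = σ') (z : S)
    (h : z ∈ (⋂ k, U (σ k) : Set S)) (h' : z ∈ (⋂ k, U (σ' k) : Set S)) :
    (c σ ⟨z, h⟩ : stk F z) = (c σ' ⟨z, h'⟩ : stk F z) := by
  subst e; rfl

lemma δ_zero_apply {p : ℕ} (c : Fam F U 0 p) (τ : Fin (p + 2) → I) (z : S)
    (h : z ∈ (⋂ k, U (τ k) : Set S)) :
    (δ 0 p c τ ⟨z, h⟩ : stk F z) = ∑ i : Fin (p + 2), ((-1 : ℤ) ^ (i : ℕ)) •
      (c (τ ∘ i.succAbove) ⟨z, Set.mem_iInter.2 fun k => Set.mem_iInter.1 h (i.succAbove k)⟩ :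
        stk F z) :=
  δ_apply 0 p c τ ⟨z, h⟩

lemma cons_mem {p : ℕ} {z : S} {i₀ : I} (hi : z ∈ U i₀) {σ : Fin (p + 1) → I}
    (h : z ∈ (⋂ k, U (σ k) : Set S)) : z ∈ (⋂ k, U ((Fin.cons i₀ σ : Fin (p + 2) → I) k) : Set S) :=
  Set.mem_iInter.2 fun k => by
    refine Fin.cases ?_ (fun j => ?_) k
    · rw [Fin.cons_zero]; exact hi
    · rw [Fin.cons_succ]; exact Set.mem_iInter.1 h j

include hcov in
/-- The lowest level. -/
lemma pointExact_zero : PointExact F U 0 where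
  inj z φ h := by
    obtain ⟨i, hi⟩ := exists_mem hcov z
    exact h (fun _ => i) (Set.mem_iInter.2 fun _ => hi)
  ker z c hc := by
    obtain ⟨i₀, hi⟩ := exists_mem hcov z
    classical
    refine ⟨fun w => if hw : w ∈ U i₀ then
      (c (fun _ => i₀) ⟨w, Set.mem_iInter.2 fun _ => hw⟩ : stk F w) else 0, fun σ h => ?_⟩
    have e := hc (Fin.cons i₀ σ) (cons_mem hi h)
    rw [δ_zero_apply, Fin.sum_univ_two] at e
    simp only [Fin.val_zero, pow_zero, one_smul, Fin.val_one, pow_one, neg_smul] at e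
    change (dite (z ∈ U i₀) _ _ : stk F z) = c σ ⟨z, h⟩
    rw [dif_pos hi]
    refine Eq.trans ?_ ((add_neg_eq_zero.1 e).symm.trans (fam_zero_congr c
      (funext fun k => by simp) z _ h))
    exact fam_zero_congr c (funext fun k => by fin_cases k; simp) z _ _
  exact p z c hc := by
    obtain ⟨i₀, hi⟩ := exists_mem hcov z
    classical
    refine ⟨fun σ y => if hy : y.1 ∈ U i₀ then
      (c (Fin.cons i₀ σ) ⟨y.1, cons_mem hy y.2⟩ : stk F y.1) else 0, fun τ h => ?_⟩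
    have e := hc (Fin.cons i₀ τ) (cons_mem hi h)
    rw [δ_zero_apply, Fin.sum_univ_succ] at e
    rw [δ_zero_apply]
    refine Eq.trans (Finset.sum_congr rfl fun i _ => congrArg _ (dif_pos hi)) ?_
    simp only [Fin.val_zero, pow_zero, one_smul, Fin.val_succ, pow_succ, mul_neg_one, neg_smul] at e
    replace e := (add_eq_zero_iff_eq_neg.1 e).trans
      ((congrArg Neg.neg (Finset.sum_neg_distrib _)).trans (neg_neg _))
    refine Eq.trans ?_ (e.symm.trans (fam_zero_congr c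
      (funext fun k => by simp) z _ h))
    refine Finset.sum_congr rfl fun i _ => congrArg _ (fam_zero_congr c (funext fun k => ?_) z _ _)
    refine Fin.cases ?_ (fun j => ?_) k <;> simp [Fin.succ_succAbove_zero, Fin.succ_succAbove_succ]

include hU hlf hcov in
/-- All levels. -/
theorem pointExact : ∀ q, PointExact F U q
  | 0 => pointExact_zero hcov
  | q + 1 =>
    have hq := pointExact q
    { inj := fun x φ h => by
        obtain ⟨ψ0, hψ0⟩ := QuotientAddGroup.mk'_surjective _ (φ x)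
        obtain ⟨ψ, hψ, hψ'⟩ : ∃ ψ : (lv F (Over.mk (𝟙 S)).hom q).Fn,
            ψ ∈ (lv F (Over.mk (𝟙 S)).hom q).N x ∧ ψ x = ψ0 x :=
          exists_mem_N F (Over.mk (𝟙 S)).hom q x (ψ0 x)
        have key : ∀ᶠ z in 𝓝 x, EqAt z (η (U := U) q (ψ0 - ψ)) 0 := by
          refine eventually_eqAt hU hlf x _ fun σ hσ => ?_
          refine eventually_zero_of_mem_N F (Tp U σ).hom q ⟨x, hσ⟩ _ ?_ ?_
          · rw [map_sub]
            refine sub_mem ?_ ((hom F (toTop U σ).left (Over.w (toTop U σ)) q).compat ⟨x, hσ⟩ ψ hψ)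
            refine (Lv.d_eq_zero_iff _ _ _).1 ?_
            refine Eq.trans ?_ (h σ hσ)
            exact ((hom F (toTop U σ).left (Over.w (toTop U σ)) q).next_m_mk ⟨x, hσ⟩ ψ0).symm.trans
              (congrArg ((hom F (toTop U σ).left (Over.w (toTop U σ)) q).next.m ⟨x, hσ⟩) hψ0)
          · change (hom F (toTop U σ).left (Over.w (toTop U σ)) q).m ⟨x, hσ⟩ ((ψ0 - ψ) x) = 0
            exact (congrArg _ (sub_eq_zero.2 hψ'.symm)).trans (map_zero _)
        rw [← hψ0]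
        refine (Lv.d_eq_zero_iff _ _ _).2 ?_
        rw [← sub_add_cancel ψ0 ψ]
        exact add_mem ((lv F (Over.mk (𝟙 S)).hom q).mem_of_eventually x _
          (key.mono fun z hz => hq.inj z _ hz)) hψ
      ker := fun x c hc => by
        obtain ⟨φ, hφ, hev⟩ := exists_lift hU hlf hq x c hc
        classical
        let b : (lv F (Over.mk (𝟙 S)).hom q).Fn := fun z =>
          if hz : EqAt z (δ q 0 φ) 0 then (hq.ker z φ hz).choose z else 0
        refine ⟨(lv F (Over.mk (𝟙 S)).hom q).d' b, fun σ h => ?_⟩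
        refine Eq.trans ?_ (hφ σ h)
        refine ((hom F (toTop U σ).left (Over.w (toTop U σ)) q).next_m_mk ⟨x, h⟩ b).trans ?_
        refine Lv.d_congr _ ?_
        filter_upwards [(continuous_subtype_val.tendsto (⟨x, h⟩ : (Tp U σ).left)).eventually hev]
          with y hy
        refine Eq.trans ?_ ((hq.ker y.1 φ hy).choose_spec σ y.2)
        have hb : b y.1 = (hq.ker y.1 φ hy).choose y.1 := dif_pos hy
        exact congrArg ((hom F (toTop U σ).left (Over.w (toTop U σ)) q).m y) hb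
      exact := fun p x c hc => by
        obtain ⟨φ, hφ, hev⟩ := exists_lift hU hlf hq x c hc
        classical
        let b : Fam F U q p := fun σ y =>
          if hy : EqAt y.1 (δ q (p + 1) φ) 0 then (hq.exact p y.1 φ hy).choose σ y else 0
        refine ⟨dQ q p b, fun τ h => ?_⟩
        rw [← dQ_δ]
        refine Eq.trans ?_ (hφ τ h)
        refine Lv.d_congr _ ?_
        filter_upwards [(continuous_subtype_val.tendsto (⟨x, h⟩ : (Tp U τ).left)).eventually hev]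
          with y hy
        refine Eq.trans ?_ ((hq.exact p y.1 φ hy).choose_spec τ y.2)
        have hb : EqAt y.1 b (hq.exact p y.1 φ hy).choose := fun σ hσ => dif_pos hy
        exact hb.δ τ y.2 }

end Groth.Agent.H30.Gode.ClosedCover
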