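import Groth.Agent.H30.Gode.ClosedCover
import Groth.Agent.H30.Gode.Descent

/-!
# The descent spectral sequence of a locally finite closed covering
-/

universe u

open CategoryTheory Limits Topology TopologicalSpace Opposite Simplicial

namespace Groth.Agent.H30.Gode.ClosedCover

variable {S : TopCat.{u}} {F : CohTop.Ab S} {I : Type u} {U : I → Set S}

lemma R_aug (q : ℕ) (φ : (lv F (Over.mk (𝟙 S)).hom q).Fn) :
    R q 0 (aug (K := sigmaNerve U) q φ) = η q φ := by
  funext σ
  exact pb_comp F q (Over.homMk ((sigmaNerve U) _⦋0⦌).hom (Category.comp_id _)) (ι U σ) φ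

variable (hU : ∀ i, IsClosed (U i)) (hlf : LocallyFinite U) (hcov : ⋃ i, U i = Set.univ)

include hU hlf hcov in
/-- The rows are exact. -/
theorem rowsExact : RowsExact F (sigmaNerve U) where
  inj q φ φ' e := by
    rw [← sub_eq_zero]
    funext z
    refine (pointExact hU hlf hcov q).inj z _ fun σ h => ?_
    rw [map_sub, ← R_aug, ← R_aug, e, sub_self]
  ker q c hc := by
    have h : δ q 0 (R q 0 c) = 0 := by
      rw [← R_d, row_d_zero, sub_eq_zero.2 hc, map_zero]
    choose φ hφ using fun z => (pointExact hU hlf hcov q).ker z (R q 0 c) (fun σ hs => by rw [h])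
    refine ⟨fun z => φ z z, (R_bijective q 0).1 ?_⟩
    rw [R_aug]
    funext σ y
    exact (hφ y.1) σ y.2
  exact q p c hc := by
    have h : δ q (p + 1) (R q (p + 1) c) = 0 := by
      rw [← R_d]
      exact (congrArg (R q (p + 1 + 1)) hc).trans (map_zero _)
    choose b hb using fun z =>
      (pointExact hU hlf hcov q).exact p z (R q (p + 1) c) (fun σ hs => by rw [h])
    let B : Fam F U q p := fun σ y => b y.1 σ y
    obtain ⟨x, hx⟩ := (R_bijective (F := F) (U := U) q p).2 B
    refine ⟨x, (R_bijective q (p + 1)).1 ?_⟩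
    rw [R_d, hx]
    funext τ y
    have hB : EqAt y.1 B (b y.1) := fun σ hσ => rfl
    exact (hB.δ τ y.2).trans (hb y.1 τ y.2)

/-- Classes on the components. -/
noncomputable def clsPi (q p : ℕ) :
    AddMonoidHom.ker (lv F ((sigmaNerve U) _⦋p⦌).hom q).d' →+
      ∀ σ : Fin (p + 1) → I, CohTop.H ((CohTop.pull (Tp U σ).hom).obj F) q where
  toFun φ σ := cls F (Tp U σ).hom q ⟨pb F q (ι U σ) φ.1, by
    rw [AddMonoidHom.mem_ker]
    exact (congrArg (pb F (q + 1) (ι U σ)) φ.2).trans (map_zero _)⟩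
  map_zero' := funext fun σ => by
    refine Eq.trans ?_ (map_zero (cls F (Tp U σ).hom q))
    exact congrArg _ (Subtype.ext (map_zero _))
  map_add' a b := funext fun σ => by
    refine Eq.trans ?_ (map_add (cls F (Tp U σ).hom q) _ _)
    exact congrArg _ (Subtype.ext (map_add _ _ _))

lemma clsPi_surjective (q p : ℕ) : Function.Surjective (clsPi (F := F) (U := U) q p) := fun v => by
  choose φ hφ using fun σ => cls_surjective F (Tp U σ).hom q (v σ)
  obtain ⟨c, hc⟩ := (R_bijective (F := F) (U := U) q p).2 fun σ => (φ σ).1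
  refine ⟨⟨c, (R_bijective (q + 1) p).1 ?_⟩, funext fun σ => ?_⟩
  · refine Eq.trans ?_ (map_zero (R (F := F) (U := U) (q + 1) p)).symm
    funext σ
    exact (congrArg (lv F (Tp U σ).hom q).d' (congrFun hc σ)).trans (φ σ).2
  · exact (congrArg (cls F (Tp U σ).hom q) (Subtype.ext (congrFun hc σ))).trans (hφ σ)

/-- Cohomology of the disjoint union. -/
theorem nonempty_colIso (q p : ℕ) :
    Nonempty ((fnCx F (op ((sigmaNerve U) _⦋p⦌))).homology q ≅ AddCommGrpCat.of
      (∀ σ : Fin (p + 1) → I, CohTop.H ((CohTop.pull (Tp U σ).hom).obj F) q)) := by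
  cases q with
  | zero =>
    refine nonempty_homology_zero F _ _ (clsPi 0 p) ⟨fun a b e => Subtype.ext ?_,
      clsPi_surjective 0 p⟩
    exact (R_bijective 0 p).1 (funext fun σ =>
      congrArg Subtype.val (cls_zero_injective F (Tp U σ).hom (congrFun e σ)))
  | succ n =>
    refine nonempty_homology_succ F _ n _ (clsPi (n + 1) p) (clsPi_surjective (n + 1) p)
      fun φ => ⟨fun h => ?_, ?_⟩
    · choose ψ hψ using fun σ => (cls_succ_eq_zero_iff F (Tp U σ).hom n _).1 (congrFun h σ)
      obtain ⟨c, hc⟩ := (R_bijective (F := F) (U := U) n p).2 ψ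
      refine ⟨c, (R_bijective (n + 1) p).1 (funext fun σ => ?_)⟩
      exact (congrArg (lv F (Tp U σ).hom n).d' (congrFun hc σ)).trans (hψ σ)
    · rintro ⟨ψ, hψ⟩
      funext σ
      refine (cls_succ_eq_zero_iff F (Tp U σ).hom n _).2 ⟨pb F n (ι U σ) ψ, ?_⟩
      exact congrArg (pb F (n + 1) (ι U σ)) hψ

end Groth.Agent.H30.Gode.ClosedCover
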