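import Groth.Agent.H30.Gode.Sep
import Groth.Agent.Lib.Spectral.Subspace

/-!
# Classes of subsets along which families of germs glue (helper30)
-/

universe u v w

open Filter Topology Set

namespace Groth.Agent.H30.Gode

variable {Z T : Type u} [TopologicalSpace Z] [TopologicalSpace T]

/-- A class of compact subsets of `Z` over which families on the ambient space can be glued. -/
structure GlueClass (i : Z → T) where
  /-- the members -/
  M : Set Z → Prop
  empty : M ∅
  univ : M univ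
  union : ∀ L L', M L → M L' → M (L ∪ L')
  inter : ∀ L L', M L → M L' → M (L ∩ L')
  compact : ∀ L, M L → IsCompact L
  loc : ∀ (z : Z), ∀ s ∈ 𝓝 z, ∃ L, M L ∧ L ∈ 𝓝 z ∧ L ⊆ s
  glue : ∀ {E : T → Type u} (L₁ L₂ : Set Z), M L₁ → M L₂ → ∀ (a b : ∀ t, E t),
    (∀ z ∈ L₁ ∩ L₂, ∀ᶠ t in 𝓝 (i z), a t = b t) →
    ∃ c : ∀ t, E t, (∀ z ∈ L₁, ∀ᶠ t in 𝓝 (i z), c t = a t) ∧
      ∀ z ∈ L₂, ∀ᶠ t in 𝓝 (i z), c t = b t
  glueId : ∀ {E : Z → Type u} (L₁ L₂ : Set Z), M L₁ → M L₂ → ∀ (a b : ∀ t, E t),
    (∀ z ∈ L₁ ∩ L₂, ∀ᶠ t in 𝓝 z, a t = b t) →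
    ∃ c : ∀ t, E t, (∀ z ∈ L₁, ∀ᶠ t in 𝓝 z, c t = a t) ∧
      ∀ z ∈ L₂, ∀ᶠ t in 𝓝 z, c t = b t

/-- Induction over the members of a glue class. -/
theorem GlueClass.induction {i : Z → T} (G : GlueClass i) {A : Set Z} (hA : G.M A)
    {P : Set Z → Prop} (h0 : P ∅) (hmono : ∀ L L', L ⊆ L' → P L' → P L)
    (hu : ∀ L L', G.M L → G.M L' → L ⊆ A → L' ⊆ A → P L → P L' → P (L ∪ L'))
    (hloc : ∀ z ∈ A, ∃ s ∈ 𝓝 z, P (s ∩ A)) : P A := by
  obtain ⟨L, -, hL, -, hP⟩ : ∃ L, G.M L ∧ A ⊆ L ∧ L ⊆ A ∧ P L :=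
    (G.compact A hA).induction_on (p := fun s => ∃ L, G.M L ∧ s ⊆ L ∧ L ⊆ A ∧ P L)
      ⟨∅, G.empty, subset_rfl, empty_subset _, h0⟩
      (fun s t hst ⟨L, h1, h2, h3, h4⟩ => ⟨L, h1, hst.trans h2, h3, h4⟩)
      (fun s t ⟨L, h1, h2, h3, h4⟩ ⟨L', h1', h2', h3', h4'⟩ => ⟨L ∪ L', G.union _ _ h1 h1',
        union_subset_union h2 h2', union_subset h3 h3', hu L L' h1 h1' h3 h3' h4 h4'⟩)
      (fun z hz => by
        obtain ⟨s, hs, hP⟩ := hloc z hz
        obtain ⟨C, hCM, hC, hCs⟩ := G.loc z s hs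
        exact ⟨C ∩ A, inter_mem (mem_nhdsWithin_of_mem_nhds hC) self_mem_nhdsWithin, C ∩ A,
          G.inter _ _ hCM hA, subset_rfl, inter_subset_right,
          hmono _ _ (inter_subset_inter_left _ hCs) hP⟩)
  exact hmono _ _ hL hP

section Gen

open TopologicalSpace Groth.Agent.Lib.Spectral

variable {X : Type u} [TopologicalSpace X]

/-- The points specializing to a point of `E`. -/
def gen (E : Set X) : Set X := {x | ∃ e ∈ E, e ∈ closure {x}}

lemma subset_gen (E : Set X) : E ⊆ gen E := fun e he => ⟨e, he, subset_closure rfl⟩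

lemma gen_subset_of_isOpen {E U : Set X} (hU : IsOpen U) (hE : E ⊆ U) : gen E ⊆ U := by
  rintro x ⟨e, he, hx⟩
  obtain ⟨y, hy, rfl⟩ := mem_closure_iff.1 hx U hU (hE he)
  exact hy

variable [SpectralSpace X]

/-- The compact open neighbourhoods of `E`. -/
abbrev qcNhd (E : Set X) : Type u := {U : Set X // E ⊆ U ∧ IsOpen U ∧ IsCompact U}

lemma gen_eq_iInter {E : Set X} (hE : IsCompact E) : gen E = ⋂ U : qcNhd E, (U : Set X) := by
  refine subset_antisymm (subset_iInter fun U => gen_subset_of_isOpen U.2.2.1 U.2.1) fun x hx => ?_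
  by_contra hx'
  have hne : E ⊆ (closure {x})ᶜ := fun e he hc => hx' ⟨e, he, hc⟩
  obtain ⟨U, hUc, hUo, hEU, hU⟩ :=
    PrespectralSpace.exists_isCompact_and_isOpen_between hE isClosed_closure.isOpen_compl hne
  exact hU (mem_iInter.1 hx ⟨U, hEU, hUo, hUc⟩) (subset_closure rfl)

lemma isClosed_cons_gen {E : Set X} (hE : IsCompact E) :
    IsClosed[constructibleTopology X] (gen E) := by
  rw [gen_eq_iInter hE]
  exact @isClosed_iInter X _ (constructibleTopology X) _ fun U => Basic.isClosed_cons U.2.2.1 U.2.2.2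

/-- A constructibly closed set missing the generizations of `E` misses a compact open nhd of `E`. -/
lemma exists_qcNhd_disjoint {E : Set X} (hE : IsCompact E) {D : Set X}
    (hD : IsClosed[constructibleTopology X] D) (hd : Disjoint D (gen E)) :
    ∃ U : qcNhd E, Disjoint D U := by
  classical
  by_contra hne
  push Not at hne
  have hnonempty := Basic.nonempty_iInter_of_isClosed_cons
    (fun U : Option (qcNhd E) => U.elim D (fun V => (V : Set X)))
    (fun U => by cases U with
      | none => exact hD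
      | some V => exact Basic.isClosed_cons V.2.2.1 V.2.2.2) (fun u => by
      let I : qcNhd E := ⟨⋂ V ∈ u, (V : Option (qcNhd E)).elim Set.univ (fun W => (W : Set X)),
          subset_iInter₂ fun V _ => ?_, isOpen_biInter_finset fun V _ => ?_, ?_⟩
      · obtain ⟨x, hxD, hxI⟩ := Set.not_disjoint_iff.1 (hne I)
        refine ⟨x, mem_iInter₂.2 fun U hU => ?_⟩
        cases U with
        | none => exact hxD
        | some V => exact mem_iInter₂.1 hxI (some V) hU
      · cases V with
        | none => exact subset_univ _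
        | some W => exact W.2.1
      · cases V with
        | none => exact isOpen_univ
        | some W => exact W.2.2.1
      · refine Basic.isCompact_of_isClosed_cons ?_
        refine @isClosed_iInter X _ (constructibleTopology X) _ fun V =>
          @isClosed_iInter X _ (constructibleTopology X) _ fun _ => ?_
        cases V with
        | none => exact @isClosed_univ X (constructibleTopology X)
        | some W => exact Basic.isClosed_cons W.2.2.1 W.2.2.2)
  obtain ⟨x, hx⟩ := hnonempty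
  have hx' : x ∈ gen E := by
    rw [gen_eq_iInter hE]
    exact mem_iInter.2 fun U => mem_iInter.1 hx (some U)
  exact Set.disjoint_left.1 hd (mem_iInter.1 hx none) hx'

/-- The glue class of compact opens on the generizations of a compact set. -/
noncomputable def genClass {E : Set X} (hE : IsCompact E) (i : Z → X) (hi : IsEmbedding i)
    (hr : range i = gen E) : GlueClass i where
  M L := IsOpen L ∧ IsCompact L
  empty := ⟨isOpen_empty, isCompact_empty⟩
  univ := ⟨isOpen_univ, by
    rw [hi.isCompact_iff, image_univ, hr]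
    exact Basic.isCompact_of_isClosed_cons (isClosed_cons_gen hE)⟩
  union L L' h h' := ⟨h.1.union h'.1, h.2.union h'.2⟩
  inter L L' h h' := ⟨h.1.inter h'.1, by
    obtain ⟨V, hVo, hVc, rfl⟩ := exists_trace hi h.1 h.2
    obtain ⟨V', hVo', hVc', rfl⟩ := exists_trace hi h'.1 h'.2
    rw [hi.isCompact_iff, ← preimage_inter, image_preimage_eq_inter_range, hr]
    exact Basic.isCompact_of_isClosed_cons (@IsClosed.inter X _ _ (constructibleTopology X)
      (@IsClosed.inter X _ _ (constructibleTopology X) (Basic.isClosed_cons hVo hVc)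
        (Basic.isClosed_cons hVo' hVc')) (isClosed_cons_gen hE))⟩
  compact L h := h.2
  loc z s hs := by
    obtain ⟨O, hOs, hO, hz⟩ := mem_nhds_iff.1 hs
    obtain ⟨O', hO', rfl⟩ := hi.isInducing.isOpen_iff.1 hO
    obtain ⟨V, ⟨hVo, hVc⟩, hzV, hV⟩ :=
      (PrespectralSpace.isTopologicalBasis (X := X)).exists_subset_of_mem_open (a := i z) hz hO'
    refine ⟨i ⁻¹' V, ⟨hVo.preimage hi.continuous, ?_⟩,
      (hVo.preimage hi.continuous).mem_nhds hzV, (preimage_mono hV).trans hOs⟩
    rw [hi.isCompact_iff, image_preimage_eq_inter_range, hr]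
    exact Basic.isCompact_of_isClosed_cons
      (@IsClosed.inter X _ _ (constructibleTopology X) (Basic.isClosed_cons hVo hVc) (isClosed_cons_gen hE))
  glue {F} L₁ L₂ h₁ h₂ a b hab := by
    classical
    obtain ⟨V₁, hV₁o, hV₁c, rfl⟩ := exists_trace hi h₁.1 h₁.2
    obtain ⟨V₂, hV₂o, hV₂c, rfl⟩ := exists_trace hi h₂.1 h₂.2
    let O := interior {t | a t = b t}
    have hD : IsClosed[constructibleTopology X] ((V₁ ∩ V₂) ∩ Oᶜ) :=
      @IsClosed.inter X _ _ (constructibleTopology X)
        (@IsClosed.inter X _ _ (constructibleTopology X) (Basic.isClosed_cons hV₁o hV₁c)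
          (Basic.isClosed_cons hV₂o hV₂c))
        (Basic.isClosed_cons_of_isClosed isOpen_interior.isClosed_compl)
    have hd : Disjoint ((V₁ ∩ V₂) ∩ Oᶜ) (gen E) := Set.disjoint_left.2 fun x hx hx' => by
      rw [← hr] at hx'
      obtain ⟨z, rfl⟩ := hx'
      exact hx.2 (mem_interior_iff_mem_nhds.2 (hab z ⟨hx.1.1, hx.1.2⟩))
    obtain ⟨U, hU⟩ := exists_qcNhd_disjoint hE hD hd
    have hiU : ∀ z, i z ∈ (U : Set X) := fun z =>
      gen_subset_of_isOpen U.2.2.1 U.2.1 (hr ▸ mem_range_self z)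
    have key : ∀ t ∈ V₁, t ∈ V₂ → t ∈ (U : Set X) → a t = b t := fun t h1 h2 h3 => by
      by_contra hne
      exact Set.disjoint_left.1 hU ⟨⟨h1, h2⟩, fun hO => hne (interior_subset (s := {t | a t = b t}) hO)⟩ h3
    refine ⟨fun t => if t ∈ V₁ then a t else b t, fun z hz => ?_, fun z hz => ?_⟩
    · filter_upwards [hV₁o.mem_nhds hz] with t ht using if_pos ht
    · filter_upwards [hV₂o.mem_nhds hz, U.2.2.1.mem_nhds (hiU z)] with t ht htU
      split_ifs with h
      · exact key t h ht htU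
      · rfl
  glueId {F} L₁ L₂ h₁ h₂ a b hab := by
    classical
    refine ⟨fun t => if t ∈ L₁ then a t else b t, fun z hz => ?_, fun z hz => ?_⟩
    · filter_upwards [h₁.1.mem_nhds hz] with t ht using if_pos ht
    · filter_upwards [h₂.1.mem_nhds hz] with t ht
      split_ifs with h
      · exact (hab t ⟨h, ht⟩).self_of_nhds
      · rfl
where
  exists_trace {i : Z → X} (hi : IsEmbedding i) {L : Set Z} (hLo : IsOpen L) (hLc : IsCompact L) :
      ∃ W : Set X, IsOpen W ∧ IsCompact W ∧ i ⁻¹' W = L := by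
    obtain ⟨V, hV, rfl⟩ := hi.isInducing.isOpen_iff.1 hLo
    obtain ⟨W, hWc, hWo, hKW, hWV⟩ := PrespectralSpace.exists_isCompact_and_isOpen_between
      (hLc.image hi.continuous) hV (image_preimage_subset _ _)
    exact ⟨W, hWo, hWc, subset_antisymm (preimage_mono hWV) (image_subset_iff.mp hKW)⟩

end Gen

end Groth.Agent.H30.Gode
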