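import Groth.Agent.H30.Gode.Lift
import Groth.Agent.H30.Gode.GlueClass

/-!
# Lifting along a subspace with a glue class (helper30)
-/

universe u

open CategoryTheory Filter Topology TopologicalSpace Opposite Set

namespace Groth.Agent.H30.Gode.GC

open Groth.Agent.H30.Gode

variable {S : TopCat.{u}} {F : CohTop.Ab S} {T Z : TopCat.{u}} {g : T ⟶ S} {i : Z ⟶ T}

variable (hs : GlueClass (i : Z → T))
include hs

/-- Lifts in degree zero over closed subsets. -/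
theorem lift_zero (A : Set Z) (hA : hs.M A) (φ : ∀ w : Z, (lv F g 1).E (i w))
    (ψ : (lv F (i ≫ g) 0).Fn) (h : ∀ z ∈ A, PairAt F g i 0 z φ ψ) :
    ∃ Φ : (lv F g 0).Fn, ∀ z ∈ A, ∀ᶠ w in 𝓝 z,
      φ w = (lv F g 0).d Φ (i w) ∧ ψ w = (rs F g i 0).fn Φ w := by
  refine hs.induction hA (P := fun L => ∃ Φ : (lv F g 0).Fn, ∀ z ∈ L, ∀ᶠ w in 𝓝 z,
      φ w = (lv F g 0).d Φ (i w) ∧ ψ w = (rs F g i 0).fn Φ w) ⟨0, fun z hz => hz.elim⟩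
    (fun L L' hLL ⟨Φ, hΦ⟩ => ⟨Φ, fun z hz => hΦ z (hLL hz)⟩) ?_ fun z hz => ?_
  · rintro L L' hL hL' - - ⟨Φ₁, h₁⟩ ⟨Φ₂, h₂⟩
    have agree : ∀ z ∈ L ∩ L', ∀ᶠ t in 𝓝 (i z), Φ₁ t = Φ₂ t := fun z hz => by
      have e1 := (h₁ z hz.1).self_of_nhds
      have e2 := (h₂ z hz.2).self_of_nhds
      have hN : Φ₁ - Φ₂ ∈ (lv F g 0).N (i z) := by
        refine (Lv.d_eq_zero_iff _ _ _).1 ?_
        rw [map_sub, Pi.sub_apply, sub_eq_zero, ← e1.1, ← e2.1]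
      refine (eventually_zero_of_mem_N F g 0 (i z) _ hN ?_).mono fun t ht => sub_eq_zero.1 ht
      exact sub_eq_zero.2 (e1.2.symm.trans e2.2)
    obtain ⟨Φ, hΦ₁, hΦ₂⟩ := hs.glue L L' hL hL' Φ₁ Φ₂ agree
    refine ⟨Φ, ?_⟩
    have : ∀ {Ψ : (lv F g 0).Fn} (z : Z), (∀ᶠ t in 𝓝 (i z), Φ t = Ψ t) →
        (∀ᶠ w in 𝓝 z, φ w = (lv F g 0).d Ψ (i w) ∧ ψ w = (rs F g i 0).fn Ψ w) →
        ∀ᶠ w in 𝓝 z, φ w = (lv F g 0).d Φ (i w) ∧ ψ w = (rs F g i 0).fn Φ w := by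
      intro Ψ z he hp
      filter_upwards [hp, (i.hom.continuous.tendsto z).eventually he.eventually_nhds] with w hw he'
      refine ⟨hw.1.trans (Lv.d_congr _ he').symm, hw.2.trans ?_⟩
      rw [LvHom.fn_apply, LvHom.fn_apply]
      exact congrArg _ he'.self_of_nhds.symm
    rintro z (hz | hz)
    · exact this z (hΦ₁ z hz) (h₁ z hz)
    · exact this z (hΦ₂ z hz) (h₂ z hz)
  · obtain ⟨Φ, hΦ⟩ := (h z hz).exists_zero
    exact ⟨_, hΦ.eventually_nhds, Φ, fun w hw => hw.1⟩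

/-- Lifts in positive degrees over closed subsets. -/
theorem lift_succ : ∀ (n : ℕ) (A : Set Z), hs.M A →
    ∀ (φ : ∀ w : Z, (lv F g (n + 2)).E (i w)) (ψ : (lv F (i ≫ g) (n + 1)).Fn),
      (∀ z ∈ A, PairAt F g i (n + 1) z φ ψ) →
      ∃ (Φ : (lv F g (n + 1)).Fn) (χ : (lv F (i ≫ g) n).Fn), ∀ z ∈ A, ∀ᶠ w in 𝓝 z,
        φ w = (lv F g (n + 1)).d Φ (i w) ∧
          ψ w = (rs F g i (n + 1)).fn Φ w + dl F (i ≫ g) n χ w := by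
  intro n
  induction n using Nat.strong_induction_on with
  | _ n ih =>
  intro A hA φ ψ h
  refine hs.induction hA (P := fun L => ∃ (Φ : (lv F g (n + 1)).Fn) (χ : (lv F (i ≫ g) n).Fn),
      ∀ z ∈ L, ∀ᶠ w in 𝓝 z, φ w = (lv F g (n + 1)).d Φ (i w) ∧
        ψ w = (rs F g i (n + 1)).fn Φ w + dl F (i ≫ g) n χ w) ⟨0, 0, fun z hz => hz.elim⟩
    (fun L L' hLL ⟨Φ, χ, hΦ⟩ => ⟨Φ, χ, fun z hz => hΦ z (hLL hz)⟩) ?_ fun z hz => ?_
  · rintro L L' hL hL' - - ⟨Φ₁, χ₁, h₁⟩ ⟨Φ₂, χ₂, h₂⟩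
    let a : ∀ w : Z, (lv F g (n + 1)).E (i w) := fun w => (Φ₁ - Φ₂) (i w)
    let b : (lv F (i ≫ g) n).Fn := χ₂ - χ₁
    have hz12 : ∀ z ∈ L ∩ L', ∀ᶠ w in 𝓝 z, (lv F g (n + 1)).d (Φ₁ - Φ₂) (i w) = 0 ∧
        dl F (i ≫ g) n b w = (rs F g i (n + 1)).m w (a w) := by
      intro z hz
      filter_upwards [h₁ z hz.1, h₂ z hz.2] with w e1 e2
      refine ⟨by rw [map_sub, Pi.sub_apply, sub_eq_zero, ← e1.1, ← e2.1], ?_⟩
      have e := e1.2.symm.trans e2.2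
      rw [LvHom.fn_apply, LvHom.fn_apply] at e
      simp only [a, b, map_sub, Pi.sub_apply]
      rw [sub_eq_sub_iff_add_eq_add]
      exact (add_comm _ _).trans e.symm
    have hp : ∀ z ∈ L ∩ L', PairAt F g i n z a b := fun z hz => by
      obtain ⟨Φ', hΦ'⟩ : Φ₁ - Φ₂ ∈ (lv F g (n + 1)).N (i z) :=
        (Lv.d_eq_zero_iff _ _ _).1 (hz12 z hz).self_of_nhds.1
      exact ⟨⟨Φ', ((i.hom.continuous.tendsto z).eventually hΦ').mono fun w hw => hw⟩,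
        (hz12 z hz).mono fun w hw => hw.2⟩
    obtain ⟨Φ', β, hβ, hΦ'⟩ : ∃ (Φ' : (lv F g n).Fn) (β : (lv F (i ≫ g) n).Fn),
        (lv F (i ≫ g) n).d' β = 0 ∧ ∀ z ∈ L ∩ L', ∀ᶠ w in 𝓝 z,
          a w = (lv F g n).d Φ' (i w) ∧ b w = (rs F g i n).fn Φ' w + β w := by
      rcases n with _ | m
      · obtain ⟨Φ', hΦ'⟩ := lift_zero hs _ (hs.inter _ _ hL hL') a b hp
        exact ⟨Φ', 0, map_zero _, fun z hz => (hΦ' z hz).mono fun w hw =>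
          ⟨hw.1, by rw [Pi.zero_apply, add_zero]; exact hw.2⟩⟩
      · obtain ⟨Φ', χ', hΦ'⟩ := ih m (Nat.lt_succ_self m) _ (hs.inter _ _ hL hL') a b hp
        exact ⟨Φ', (lv F (i ≫ g) m).d' χ', Lv.d'_d' _ χ', hΦ'⟩
    let Φ₂' := Φ₂ + dl F g n Φ'
    let χ₂' := χ₂ - ((rs F g i n).fn Φ' + β)
    have h₂' : ∀ z ∈ L', ∀ᶠ w in 𝓝 z, φ w = (lv F g (n + 1)).d Φ₂' (i w) ∧
        ψ w = (rs F g i (n + 1)).fn Φ₂' w + dl F (i ≫ g) n χ₂' w := fun z hz => by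
      filter_upwards [h₂ z hz] with w e
      refine ⟨?_, ?_⟩
      · rw [map_add, Pi.add_apply, d_d Φ' (i w)]
        exact e.1.trans (add_zero _).symm
      have hβ' : dl F (i ≫ g) n β w = 0 := congrFun hβ w
      have hd : (rs F g i (n + 1)).fn (dl F g n Φ') w =
          dl F (i ≫ g) n ((rs F g i n).fn Φ') w := (d_fn Φ' w).symm
      simp only [Φ₂', χ₂', map_add, map_sub, Pi.add_apply, Pi.sub_apply, hd, hβ', add_zero]
      rw [e.2]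
      abel
    have agreeΦ : ∀ z ∈ L ∩ L', ∀ᶠ t in 𝓝 (i z), Φ₁ t = Φ₂' t := fun z hz => by
      have e1 := (h₁ z hz.1).self_of_nhds
      have e2 := (h₂' z hz.2).self_of_nhds
      have hN : Φ₁ - Φ₂' ∈ (lv F g (n + 1)).N (i z) := by
        refine (Lv.d_eq_zero_iff _ _ _).1 ?_
        rw [map_sub, Pi.sub_apply, sub_eq_zero, ← e1.1, ← e2.1]
      refine (eventually_zero_of_mem_N F g _ (i z) _ hN ?_).mono fun t ht => sub_eq_zero.1 ht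
      have e3 : a z = dl F g n Φ' (i z) := (hΦ' z hz).self_of_nhds.1
      change Φ₁ (i z) - (Φ₂ (i z) + dl F g n Φ' (i z)) = 0
      rw [← e3]
      simp [a]
    have agreeχ : ∀ z ∈ L ∩ L', ∀ᶠ w in 𝓝 (id z), χ₁ w = χ₂' w := fun z hz => by
      filter_upwards [hΦ' z hz] with w hw
      simp only [χ₂', Pi.sub_apply, Pi.add_apply, ← hw.2, b, sub_sub_cancel]
    obtain ⟨Φ, hΦ₁, hΦ₂⟩ := hs.glue L L' hL hL' Φ₁ Φ₂' agreeΦ
    obtain ⟨χ, hχ₁, hχ₂⟩ := hs.glueId L L' hL hL' χ₁ χ₂' agreeχ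
    refine ⟨Φ, χ, ?_⟩
    have : ∀ {Ψ : (lv F g (n + 1)).Fn} {χ' : (lv F (i ≫ g) n).Fn} (z : Z),
        (∀ᶠ t in 𝓝 (i z), Φ t = Ψ t) → (∀ᶠ w in 𝓝 z, χ w = χ' w) →
        (∀ᶠ w in 𝓝 z, φ w = (lv F g (n + 1)).d Ψ (i w) ∧
          ψ w = (rs F g i (n + 1)).fn Ψ w + dl F (i ≫ g) n χ' w) →
        ∀ᶠ w in 𝓝 z, φ w = (lv F g (n + 1)).d Φ (i w) ∧
          ψ w = (rs F g i (n + 1)).fn Φ w + dl F (i ≫ g) n χ w := by
      intro Ψ χ' z he heχ hp'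
      filter_upwards [hp', (i.hom.continuous.tendsto z).eventually he.eventually_nhds,
        heχ.eventually_nhds] with w hw he' heχ'
      refine ⟨hw.1.trans (Lv.d_congr _ he').symm, hw.2.trans ?_⟩
      rw [LvHom.fn_apply, LvHom.fn_apply,
        show dl F (i ≫ g) n χ w = dl F (i ≫ g) n χ' w from Lv.d_congr _ heχ']
      exact congrArg (· + _) (congrArg _ he'.self_of_nhds.symm)
    rintro z (hz | hz)
    · exact this z (hΦ₁ z hz) (hχ₁ z hz) (h₁ z hz)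
    · exact this z (hΦ₂ z hz) (hχ₂ z hz) (h₂' z hz)
  · obtain ⟨Φ, χ, hΦ⟩ := (h z hz).exists_succ
    exact ⟨_, hΦ.eventually_nhds, Φ, χ, fun w hw => hw.1⟩

omit hs in
lemma mem_N_of_d_eq_zero {n : ℕ} {Φ : (lv F g n).Fn} {z : Z}
    (h : (lv F g n).d Φ (i z) = 0) : ∀ᶠ t in 𝓝 (i z), (lv F g n).d Φ t = 0 :=
  (mem_N_eventually F g n (i z) Φ ((Lv.d_eq_zero_iff _ _ _).1 h)).mono
    fun _ ht => (Lv.d_eq_zero_iff _ _ _).2 ht

/-- Surjectivity of the restriction in degree zero. -/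
theorem restrict_surj_zero (ψ : (lv F (i ≫ g) 0).Fn) (h : (lv F (i ≫ g) 0).d' ψ = 0) :
    ∃ Φ : (lv F g 0).Fn, (∀ z : Z, ∀ᶠ t in 𝓝 (i z), (lv F g 0).d Φ t = 0) ∧
      (rs F g i 0).fn Φ = ψ := by
  obtain ⟨Φ, hΦ⟩ := lift_zero hs univ hs.univ (fun _ => 0) ψ fun z _ =>
    ⟨⟨0, Eventually.of_forall fun _ => by rw [map_zero]; rfl⟩,
      Eventually.of_forall fun w => by rw [map_zero]; exact congrFun h w⟩
  exact ⟨Φ, fun z => mem_N_of_d_eq_zero (hΦ z trivial).self_of_nhds.1.symm,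
    funext fun z => (hΦ z trivial).self_of_nhds.2.symm⟩

/-- Surjectivity of the restriction in positive degrees. -/
theorem restrict_surj (n : ℕ) (ψ : (lv F (i ≫ g) (n + 1)).Fn)
    (h : (lv F (i ≫ g) (n + 1)).d' ψ = 0) :
    ∃ (Φ : (lv F g (n + 1)).Fn) (χ : (lv F (i ≫ g) n).Fn),
      (∀ z : Z, ∀ᶠ t in 𝓝 (i z), (lv F g (n + 1)).d Φ t = 0) ∧
        (rs F g i (n + 1)).fn Φ = ψ + dl F (i ≫ g) n χ := by
  obtain ⟨Φ, χ, hΦ⟩ := lift_succ hs n univ hs.univ (fun _ => 0) ψ fun z _ =>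
    ⟨⟨0, Eventually.of_forall fun _ => by rw [map_zero]; rfl⟩,
      Eventually.of_forall fun w => by rw [map_zero]; exact congrFun h w⟩
  refine ⟨Φ, -χ, fun z => mem_N_of_d_eq_zero (hΦ z trivial).self_of_nhds.1.symm,
    funext fun z => ?_⟩
  rw [map_neg, Pi.add_apply, Pi.neg_apply]
  exact eq_add_neg_of_add_eq (hΦ z trivial).self_of_nhds.2.symm

omit hs in
/-- Injectivity of the restriction in degree zero. -/
theorem restrict_inj_zero (Φ : (lv F g 0).Fn) (h : ∀ z : Z, (lv F g 0).d Φ (i z) = 0)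
    (h' : (rs F g i 0).fn Φ = 0) (z : Z) : ∀ᶠ t in 𝓝 (i z), Φ t = 0 :=
  eventually_zero_of_mem_N F g 0 (i z) Φ ((Lv.d_eq_zero_iff _ _ _).1 (h z)) (congrFun h' z)

/-- Injectivity of the restriction in positive degrees. -/
theorem restrict_inj (n : ℕ) (Φ : (lv F g (n + 1)).Fn)
    (h : ∀ z : Z, (lv F g (n + 1)).d Φ (i z) = 0) (ψ : (lv F (i ≫ g) n).Fn)
    (h' : (lv F (i ≫ g) n).d' ψ = (rs F g i (n + 1)).fn Φ) :
    ∃ Ψ : (lv F g n).Fn, ∀ z : Z, ∀ᶠ t in 𝓝 (i z), Φ t = (lv F g n).d Ψ t := by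
  have hp : ∀ z ∈ (univ : Set Z), PairAt F g i n z (fun w => Φ (i w)) ψ := fun z _ => by
    obtain ⟨Φ', hΦ'⟩ : Φ ∈ (lv F g (n + 1)).N (i z) := (Lv.d_eq_zero_iff _ _ _).1 (h z)
    exact ⟨⟨Φ', ((i.hom.continuous.tendsto z).eventually hΦ').mono fun w hw => hw⟩,
      Eventually.of_forall fun w => congrFun h' w⟩
  obtain ⟨Ψ, hΨ⟩ : ∃ Ψ : (lv F g n).Fn, ∀ z, Φ (i z) = (lv F g n).d Ψ (i z) := by
    rcases n with _ | m
    · obtain ⟨Ψ, hΨ⟩ := lift_zero hs univ hs.univ _ ψ hp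
      exact ⟨Ψ, fun z => (hΨ z trivial).self_of_nhds.1⟩
    · obtain ⟨Ψ, _, hΨ⟩ := lift_succ hs m univ hs.univ _ ψ hp
      exact ⟨Ψ, fun z => (hΨ z trivial).self_of_nhds.1⟩
  refine ⟨Ψ, fun z => ?_⟩
  refine (eventually_zero_of_mem_N F g (n + 1) (i z) (Φ - dl F g n Ψ) ?_
    (sub_eq_zero.2 (hΨ z))).mono fun t ht => sub_eq_zero.1 ht
  refine (Lv.d_eq_zero_iff _ _ _).1 ?_
  rw [map_sub, Pi.sub_apply, d_d Ψ (i z), h z]
  exact sub_zero _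

end Groth.Agent.H30.Gode.GC
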