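import Groth.Agent.H30.Gode.GermH
import Groth.Agent.H30.Gode.LiftS

/-!
# Cohomology of neighbourhoods of a subspace with a glue class (helper30)
-/

set_option linter.style.haveILetI false

universe u

open CategoryTheory Limits TopologicalSpace Opposite Abelian Filter Topology
open Groth.Agent.Lib.ZarCoh.Basic Groth.Agent.Lib.ZarCoh.Compare

namespace Groth.Agent.H30.Gode.GH

open Groth.Agent.H30.Gode

variable {X : TopCat.{u}} {F : CohTop.Ab X} {Z : TopCat.{u}} (i : Z ⟶ X)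
variable (U : Opens X) (hU : ∀ z, i z ∈ U) (n : ℕ)

variable (hs : GlueClass (i : Z → X))
include hs

theorem exists_resZ_eq (x : CohTop.H ((CohTop.pull i).obj F) n) :
    ∃ (U : Opens X) (hU : ∀ z, i z ∈ U) (c : CohTop.HU F n U), resZ i U hU n c = x := by
  obtain ⟨φ, rfl⟩ := cls_surjective F i n x
  obtain ⟨Φ, hΦ, hcls⟩ : ∃ Φ : (lv F (𝟙 X) n).Fn,
      (∀ z, ∀ᶠ t in 𝓝 (i z), (lv F (𝟙 X) n).d Φ t = 0) ∧
      ∀ ψ : AddMonoidHom.ker (lv F i n).d', ψ.1 = (rs F (𝟙 X) i n).fn Φ → cls F i n ψ = cls F i n φ := by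
    rcases n with _ | m
    · obtain ⟨Φ, hΦ, e⟩ := GC.restrict_surj_zero (F := F) (g := 𝟙 X) (i := i) hs φ.1 φ.2
      exact ⟨Φ, hΦ, fun ψ hψ => congrArg _ (Subtype.ext (hψ.trans e))⟩
    · obtain ⟨Φ, χ, hΦ, e⟩ := GC.restrict_surj (F := F) (g := 𝟙 X) (i := i) hs m φ.1 φ.2
      refine ⟨Φ, hΦ, fun ψ hψ => ?_⟩
      rw [← sub_eq_zero, ← map_sub, cls_succ_eq_zero_iff]
      refine ⟨χ, ?_⟩
      change _ = ψ.1 - φ.1
      exact (eq_sub_of_add_eq' ((e.symm.trans hψ.symm))).trans rfl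
  let U : Opens X := ⟨interior {t | (lv F (𝟙 X) n).d Φ t = 0}, isOpen_interior⟩
  have hU : ∀ z, i z ∈ U := fun z => mem_interior_iff_mem_nhds.2 (hΦ z)
  obtain ⟨a, ha⟩ := exists_famU (U := U) Φ fun y hy =>
    interior_subset (s := {t | (lv F (𝟙 X) n).d Φ t = 0}) hy
  refine ⟨U, hU, clsU F U n a, (resZ_clsU i U hU n a).trans (hcls _ (funext fun z => ?_))⟩
  rw [toZ_apply, LvHom.fn_apply, LvHom.fn_apply, ha (i z) (hU z)]

theorem resZ_eq_zero (c : CohTop.HU F n U) (h : resZ i U hU n c = 0) :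
    ∃ (V : Opens X) (j : V ⟶ U), (∀ z, i z ∈ V) ∧ CohTop.res F n j.le c = 0 := by
  obtain ⟨a, rfl⟩ := clsU_surjective U n c
  rw [resZ_clsU] at h
  have hd : ∀ z, (lv F (𝟙 X) n).d (famU F U n a) (i z) = 0 := fun z => famU_d a (i z) (hU z)
  rcases n with _ | m
  · have h' : (toZ F i U hU 0 a).1 = 0 :=
      congrArg Subtype.val (cls_zero_injective F i (h.trans (map_zero _).symm))
    let V : Opens X := ⟨interior {t | famU F U 0 a t = 0}, isOpen_interior⟩ ⊓ U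
    refine ⟨V, homOfLE inf_le_right, fun z => ⟨mem_interior_iff_mem_nhds.2
      (GC.restrict_inj_zero (F := F) (g := 𝟙 X) (i := i) _ hd h' z), hU z⟩, ?_⟩
    rw [clsU_res (homOfLE inf_le_right)]
    have : Zs.map (homOfLE inf_le_right : V ⟶ U) ≫ a = 0 := famU_ext fun y hy => by
      rw [famU_res _ a y hy, map_zero]
      exact interior_subset (s := {t | famU F U 0 a t = 0}) hy.1
    rw [this, map_zero]
  · obtain ⟨ψ, hψ⟩ := (cls_succ_eq_zero_iff F i m _).1 h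
    obtain ⟨Ψ, hΨ⟩ := GC.restrict_inj (F := F) (g := 𝟙 X) (i := i) hs m _ hd ψ hψ
    let V : Opens X :=
      ⟨interior {t | famU F U (m + 1) a t = (lv F (𝟙 X) m).d Ψ t}, isOpen_interior⟩ ⊓ U
    refine ⟨V, homOfLE inf_le_right, fun z => ⟨mem_interior_iff_mem_nhds.2 (hΨ z), hU z⟩, ?_⟩
    rw [clsU_res (homOfLE inf_le_right)]
    let b : Zs.obj V ⟶ god (lv F (𝟙 X) m) := (homEquiv V _).symm fun y => Ψ y.1
    have : Zs.map (homOfLE inf_le_right : V ⟶ U) ≫ a = b ≫ (chainU F V).p m := famU_ext fun y hy => by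
      refine (famU_res _ a y hy).trans (Eq.trans ?_ (famU_p b y hy).symm)
      refine (interior_subset (s := {t | famU F U (m + 1) a t = (lv F (𝟙 X) m).d Ψ t}) hy.1).trans ?_
      refine (Lv.d_congr _ (Filter.mem_of_superset (V.isOpen.mem_nhds hy) fun t ht => ?_)).symm
      refine (ext0_of_mem _ _ t ht).trans ?_
      exact congrFun (Equiv.apply_symm_apply _ _) (⟨t, ht⟩ : V)
    rw [this]
    change Ext.comp (AcycChain.toExt (chainU F V) (m + 1) (b ≫ (chainU F V).p m))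
      (Ext.mk₀ (pullIdIso F).hom) (add_zero (m + 1)) = 0
    rw [show AcycChain.toExt (chainU F V) (m + 1) (b ≫ (chainU F V).p m) = 0 from
      (AcycChain.toExt_succ_eq_zero_iff (chainU F V) m _).2 ⟨b, rfl⟩]
    rw [Ext.zero_comp]

end Groth.Agent.H30.Gode.GH
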