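import Groth.Agent.H30.Gode.Rows

/-!
# Elements of the subgroups `N` are determined near a point by their value there
-/

universe u

open CategoryTheory Filter Topology TopologicalSpace Opposite

namespace Groth.Agent.H30.Gode

variable {S : TopCat.{u}} (F : CohTop.Ab S) {Y : TopCat.{u}} (g : Y ⟶ S)

/-- Membership is an open condition. -/
lemma mem_N_eventually : ∀ (n : ℕ) (y : Y) (φ : (lv F g n).Fn), φ ∈ (lv F g n).N y →
    ∀ᶠ z in 𝓝 y, φ ∈ (lv F g n).N z
  | 0, y, φ, hφ => by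
    obtain ⟨W, hW, t, ht⟩ := hφ
    filter_upwards [ht.eventually_nhds, (g.hom.continuous.tendsto y).eventually
      (W.isOpen.mem_nhds hW)] with z hz hzW
    exact ⟨W, hzW, t, hz⟩
  | n + 1, y, ψ, hψ => by
    obtain ⟨φ, hφ⟩ := hψ
    filter_upwards [hφ.eventually_nhds] with z hz
    exact ⟨φ, hz⟩

/-- Elements of `N` vanishing at the point vanish nearby. -/
lemma eventually_zero_of_mem_N : ∀ (n : ℕ) (y : Y) (φ : (lv F g n).Fn), φ ∈ (lv F g n).N y →
    φ y = 0 → ∀ᶠ z in 𝓝 y, φ z = 0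
  | 0, y, φ, hφ, h0 => by
    obtain ⟨W, hW, t, ht⟩ := hφ
    have hy := ht.self_of_nhds
    rw [h0, germFam_of_mem F g t y hW] at hy
    obtain ⟨W', hW', i₁, i₂, e⟩ := TopCat.Presheaf.germ_eq F.obj (g y) hW hW t 0
      (by rw [map_zero]; exact hy.symm)
    filter_upwards [ht, (g.hom.continuous.tendsto y).eventually (W'.isOpen.mem_nhds hW')]
      with z hz hzW
    rw [hz, germFam_of_mem F g t z (i₁.le hzW),
      ← TopCat.Presheaf.germ_res_apply F.obj i₁ (g z) hzW t, e, map_zero, map_zero]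
    rfl
  | n + 1, y, ψ, hψ, h0 => by
    obtain ⟨φ, hφ⟩ := hψ
    have hy : φ ∈ (lv F g n).N y :=
      (Lv.d_eq_zero_iff _ φ y).1 (hφ.self_of_nhds.symm.trans h0)
    filter_upwards [hφ, mem_N_eventually F g n y φ hy] with z hz hz'
    exact hz.trans ((Lv.d_eq_zero_iff _ φ z).2 hz')

/-- Every value is the value of an element of `N`. -/
lemma exists_mem_N : ∀ (n : ℕ) (y : Y) (e : (lv F g n).E y), ∃ φ ∈ (lv F g n).N y, φ y = e
  | 0, y, e => by
    obtain ⟨W, hW, t, ht⟩ := TopCat.Presheaf.germ_exist F.obj (x := g y) e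
    exact ⟨germFam F g W t, ⟨W, hW, t, Eventually.of_forall fun _ => rfl⟩,
      (germFam_of_mem F g t y hW).trans ht⟩
  | n + 1, y, e => by
    obtain ⟨φ, rfl⟩ := QuotientAddGroup.mk'_surjective _ e
    exact ⟨(lv F g n).d φ, ⟨φ, Eventually.of_forall fun _ => rfl⟩, rfl⟩

end Groth.Agent.H30.Gode
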