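import Mathlib.Topology.Sets.Opens
import Mathlib.Order.Zorn
import Mathlib.Algebra.Group.Subgroup.Lattice
import Mathlib.Tactic.Abel

/-!
# Pointwise glued complexes which are locally exact are exact

The terms are groups of families over the points of a space; `Z n s` consists of those vanishing
over `s`. This is the acyclicity of flasque resolutions, elementwise.
-/

universe u v

open Filter Topology TopologicalSpace

namespace Groth.Agent.H30.Gode

/-- A complex of families over the points of a space. -/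
structure PtCx (S : Type u) [TopologicalSpace S] where
  C : ℕ → Type v
  [grp : ∀ n, AddCommGroup (C n)]
  d : ∀ n, C n →+ C (n + 1)
  Z : ∀ n, S → AddSubgroup (C n)
  sep : ∀ n x, (∀ s, x ∈ Z n s) → x = 0
  glue : ∀ n (b : S → C n), ∃ c, ∀ s, c - b s ∈ Z n s
  local' : ∀ n (U : Set S), IsOpen U → ∀ x, (∀ s ∈ U, x ∈ Z n s) → ∀ s ∈ U, d n x ∈ Z (n + 1) s
  d_d : ∀ n x, d (n + 1) (d n x) = 0
  inj : ∀ s x, (∀ᶠ t in 𝓝 s, d 0 x ∈ Z 1 t) → x ∈ Z 0 s
  exact : ∀ n s x, (∀ᶠ t in 𝓝 s, d (n + 1) x ∈ Z (n + 2) t) →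
    ∃ b, ∀ᶠ t in 𝓝 s, x - d n b ∈ Z (n + 1) t

attribute [instance] PtCx.grp

namespace PtCx

variable {S : Type u} [TopologicalSpace S] (P : PtCx.{u, v} S)

/-- Injectivity in degree zero. -/
theorem eq_zero (x : P.C 0) (h : P.d 0 x = 0) : x = 0 :=
  P.sep 0 x fun s => P.inj s x (Eventually.of_forall fun _ => by rw [h]; exact zero_mem _)

/-- Exactness over open sets. -/
theorem exists_on : ∀ (n : ℕ) (U : Set S), IsOpen U → ∀ x : P.C (n + 1),
    (∀ s ∈ U, P.d (n + 1) x ∈ P.Z (n + 2) s) → ∃ b, ∀ s ∈ U, x - P.d n b ∈ P.Z (n + 1) s := by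
  intro n
  induction n using Nat.strong_induction_on with
  | _ n ih =>
  intro U hU x hx
  classical
  let J := {q : Set S × P.C n // IsOpen q.1 ∧ q.1 ⊆ U ∧ ∀ s ∈ q.1, x - P.d n q.2 ∈ P.Z (n + 1) s}
  let r : J → J → Prop := fun a b => a.1.1 ⊆ b.1.1 ∧ ∀ s ∈ a.1.1, a.1.2 - b.1.2 ∈ P.Z n s
  have htr : ∀ {a b c : J}, r a b → r b c → r a c := fun {a b c} h h' =>
    ⟨h.1.trans h'.1, fun s hs => by
      rw [← sub_add_sub_cancel a.1.2 b.1.2 c.1.2]; exact add_mem (h.2 s hs) (h'.2 s (h.1 hs))⟩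
  obtain ⟨m, hm⟩ : ∃ m, ∀ a, r m a → r a m := exists_maximal_of_chains_bounded (fun c hc => by
    obtain ⟨g, hg⟩ : ∃ g : S → P.C n, ∀ s, (∃ a ∈ c, s ∈ a.1.1) →
        ∃ a ∈ c, s ∈ a.1.1 ∧ g s = a.1.2 := by
      refine ⟨fun s => if h : ∃ a ∈ c, s ∈ a.1.1 then h.choose.1.2 else 0, fun s hs => ?_⟩
      exact ⟨hs.choose, hs.choose_spec.1, hs.choose_spec.2, dif_pos hs⟩
    obtain ⟨b, hb⟩ := P.glue n g
    have key : ∀ a ∈ c, ∀ s ∈ a.1.1, b - a.1.2 ∈ P.Z n s := by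
      intro a ha s hs
      obtain ⟨a', ha', hs', e⟩ := hg s ⟨a, ha, hs⟩
      have h1 := hb s
      rw [e] at h1
      rw [← sub_add_sub_cancel b a'.1.2 a.1.2]
      refine add_mem h1 ?_
      by_cases haa : a' = a
      · subst haa; rw [sub_self]; exact zero_mem _
      · rcases hc ha' ha haa with h | h
        · exact h.2 s hs'
        · rw [← neg_sub]; exact neg_mem (h.2 s hs)
    let V : Set S := {s | ∃ a ∈ c, s ∈ a.1.1}
    have hVo : IsOpen V := isOpen_iff_forall_mem_open.2 fun s ⟨a, ha, hs⟩ =>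
      ⟨a.1.1, fun t ht => ⟨a, ha, ht⟩, a.2.1, hs⟩
    refine ⟨⟨(V, b), hVo, fun s ⟨a, _, hs⟩ => a.2.2.1 hs, fun s ⟨a, ha, hs⟩ => ?_⟩,
      fun a ha => ⟨fun s hs => ⟨a, ha, hs⟩, fun s hs => by
        rw [← neg_sub]; exact neg_mem (key a ha s hs)⟩⟩
    have h1 := P.local' n _ a.2.1 _ (key a ha) s hs
    rw [map_sub] at h1
    rw [← sub_sub_sub_cancel_right x (P.d n b) (P.d n a.1.2)]
    exact sub_mem (a.2.2.2 s hs) h1) (fun h h' => htr h h')
  obtain ⟨⟨V, b⟩, hVo, hVU, hV⟩ := m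
  refine ⟨b, fun s hs => hV s ?_⟩
  by_contra hsV
  obtain ⟨b', hb'⟩ := P.exact n s x (Filter.mem_of_superset (hU.mem_nhds hs) hx)
  obtain ⟨W, hWsub, hWo, hsW⟩ := mem_nhds_iff.1
    (inter_mem (hU.mem_nhds hs) hb' : U ∩ {t | x - P.d n b' ∈ P.Z (n + 1) t} ∈ 𝓝 s)
  have hd : ∀ t ∈ V ∩ W, P.d n (b - b') ∈ P.Z (n + 1) t := fun t ht => by
    rw [map_sub, ← sub_sub_sub_cancel_left _ _ x]
    exact sub_mem (hWsub ht.2).2 (hV t ht.1)
  obtain ⟨c', hc', hW'⟩ : ∃ c', (∀ t ∈ V ∩ W, b - c' ∈ P.Z n t) ∧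
      ∀ t ∈ W, x - P.d n c' ∈ P.Z (n + 1) t := by
    rcases n with _ | k
    · exact ⟨b', fun t ht => P.inj t _ (Filter.mem_of_superset ((hVo.inter hWo).mem_nhds ht) hd),
        fun t ht => (hWsub ht).2⟩
    · obtain ⟨e, he⟩ := ih k (Nat.lt_succ_self k) (V ∩ W) (hVo.inter hWo) (b - b') hd
      refine ⟨b' + P.d k e, fun t ht => ?_, fun t ht => ?_⟩
      · rw [← sub_sub]; exact he t ht
      · rw [map_add, P.d_d, add_zero]; exact (hWsub ht).2
  obtain ⟨b'', hb''⟩ := P.glue n fun t => if t ∈ V then b else c'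
  have hbV : ∀ t ∈ V, b - b'' ∈ P.Z n t := fun t ht => by
    have := hb'' t
    simp only [if_pos ht] at this
    rw [← neg_sub]; exact neg_mem this
  have hbW : ∀ t ∈ W, c' - b'' ∈ P.Z n t := fun t ht => by
    have := hb'' t
    by_cases htV : t ∈ V
    · simp only [if_pos htV] at this
      rw [← sub_add_sub_cancel c' b b'']
      exact add_mem (by rw [← neg_sub]; exact neg_mem (hc' t ⟨htV, ht⟩)) (hbV t htV)
    · simp only [if_neg htV] at this
      rw [← neg_sub]; exact neg_mem this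
  have hnew : ∀ t ∈ V ∪ W, x - P.d n b'' ∈ P.Z (n + 1) t := by
    rintro t (ht | ht)
    · have h1 := P.local' n V hVo _ hbV t ht
      rw [map_sub] at h1
      rw [← sub_add_sub_cancel x (P.d n b)]
      exact add_mem (hV t ht) h1
    · have h1 := P.local' n W hWo _ hbW t ht
      rw [map_sub] at h1
      rw [← sub_add_sub_cancel x (P.d n c')]
      exact add_mem (hW' t ht) h1
  exact hsV ((hm ⟨(V ∪ W, b''), hVo.union hWo,
    Set.union_subset hVU fun t ht => (hWsub ht).1, hnew⟩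
      ⟨Set.subset_union_left, hbV⟩).1 (Or.inr hsW))

/-- Exactness. -/
theorem exists_eq (n : ℕ) (x : P.C (n + 1)) (h : P.d (n + 1) x = 0) : ∃ b, P.d n b = x := by
  obtain ⟨b, hb⟩ := P.exists_on n Set.univ isOpen_univ x fun _ _ => by rw [h]; exact zero_mem _
  exact ⟨b, (sub_eq_zero.1 (P.sep _ _ fun s => hb s trivial)).symm⟩

end PtCx

end Groth.Agent.H30.Gode
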