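import Groth.Agent.H30.Gode.Aug
import Groth.Agent.H30.Gode.PtCx

/-!
# Cohomological descent for proper simplicial spaces with acyclic fibres
-/

universe u

open CategoryTheory Limits Filter Topology TopologicalSpace Opposite Simplicial

namespace Groth.Agent.H30.Gode

open E1

variable {S : TopCat.{u}}

/-- An extra degeneracy of an augmented simplicial space. -/
structure ExtraDeg (K : SimplicialObject (Over S)) {B : Over S} (a : K _⦋0⦌ ⟶ B) where
  σ : B ⟶ K _⦋0⦌
  σ_a : σ ≫ a = 𝟙 B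
  h : ∀ p, K _⦋p⦌ ⟶ K _⦋p + 1⦌
  h_zero : ∀ p, h p ≫ K.δ 0 = 𝟙 _
  h_one : h 0 ≫ K.δ (1 : Fin 2) = a ≫ σ
  h_succ : ∀ p (i : Fin (p + 2)), h (p + 1) ≫ K.δ i.succ = K.δ i ≫ h p

variable (F : CohTop.Ab S) {K : SimplicialObject (Over S)} {B : Over S} {a : K _⦋0⦌ ⟶ B}

lemma pb_id (q : ℕ) {T : Over S} (φ : (lv F T.hom q).Fn) : pb F q (𝟙 T) φ = φ :=
  ConcreteCategory.congr_hom ((fnF F q).map_id (op T)) φ

theorem ExtraDeg.rowsAcyclic (e : ExtraDeg K a) (ha : K.δ 0 ≫ a = K.δ (1 : Fin 2) ≫ a) :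
    (bicx F K B a ha).RowsAcyclic where
  zero q x h := by
    have h' : pb F q a x = 0 := h
    refine (pb_id F q x).symm.trans ?_
    rw [← e.σ_a, ← pb_comp, h', map_zero]
    rfl
  succ p q x h := by
    rcases p with _ | p
    · have h' : pb F q (K.δ 0) x = pb F q (K.δ (1 : Fin 2)) x :=
        sub_eq_zero.1 ((row_d_zero F K q x).symm.trans h)
      refine ⟨pb F q e.σ x, ?_⟩
      change pb F q a (pb F q e.σ x) = x
      rw [pb_comp, ← e.h_one, ← pb_comp, ← h', pb_comp, e.h_zero]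
      exact pb_id F q x
    · refine ⟨pb F q (e.h p) x, ?_⟩
      change (row F K q).d p (p + 1) (pb F q (e.h p) x) = x
      let x' : (lv F (K _⦋p + 1⦌).hom q).Fn := x
      have hd : (row F K q).d (p + 1) (p + 1 + 1) x' = 0 := h
      rw [row_d_apply, Fin.sum_univ_succ] at hd
      have h0 := (congrArg (pb F q (e.h (p + 1))) hd).trans (map_zero _)
      rw [map_add, map_sum] at h0
      have t0 : pb F q (e.h (p + 1)) (((-1 : ℤ) ^ ((0 : Fin (p + 3)) : ℕ)) • pb F q (K.δ 0) x') = x' := by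
        rw [Fin.val_zero, pow_zero, one_smul, pb_comp, e.h_zero, pb_id]
      have ti : ∀ i : Fin (p + 2),
          pb F q (e.h (p + 1)) (((-1 : ℤ) ^ ((i.succ : Fin (p + 3)) : ℕ)) • pb F q (K.δ i.succ) x') =
            -(((-1 : ℤ) ^ (i : ℕ)) • pb F q (K.δ i) (pb F q (e.h p) x')) := fun i => by
        rw [map_zsmul, Fin.val_succ, pow_succ, mul_neg_one, neg_smul, pb_comp, pb_comp, e.h_succ]
      rw [t0, Finset.sum_congr rfl fun i _ => ti i, Finset.sum_neg_distrib] at h0
      rw [row_d_apply]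
      exact (add_neg_eq_zero.1 h0).symm

variable (K B a) in
/-- The families of total degree `n` vanishing over a point. -/
def tVanish (ha : K.δ 0 ≫ a = K.δ (1 : Fin 2) ≫ a) (n : ℕ) (t : S) :
    AddSubgroup ((bicx F K B a ha).W n) where
  carrier := {c | ∀ p q, c.1 p q ∈ vanish F q t}
  zero_mem' := fun _ _ => zero_mem _
  add_mem' h h' := fun p q => add_mem (h p q) (h' p q)
  neg_mem' h := fun p q => neg_mem (h p q)

/-- Fibrewise acyclicity of an augmented proper simplicial space. -/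
structure FibAcyclic (K : SimplicialObject (Over S)) (B : Over S) (a : K _⦋0⦌ ⟶ B) : Prop where
  ha : K.δ 0 ≫ a = K.δ (1 : Fin 2) ≫ a
  properB : IsProperSep B
  proper : ∀ p, IsProperSep (K _⦋p⦌)
  acyclic : ∀ (G : CohTop.Ab S) (s : S), (fibBicx G K B a s ha).RowsAcyclic

variable {F}

lemma eventually_tVanish {ha : K.δ 0 ≫ a = K.δ (1 : Fin 2) ≫ a} {n : ℕ} {s : S}
    {c : (bicx F K B a ha).W n} (h : ∀ p q, c.1 p q ∈ vanishNear F q s) :
    ∀ᶠ t in 𝓝 s, c ∈ tVanish F K B a ha n t := by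
  have h' : ∀ᶠ t in 𝓝 s, ∀ (p : Fin (n + 1)) (q : Fin (n + 1)), c.1 p q ∈ vanish F (q : ℕ) t :=
    eventually_all.2 fun p => eventually_all.2 fun q => h p q
  filter_upwards [h'] with t ht p q
  by_cases hpq : p + q = n
  · exact ht ⟨p, by omega⟩ ⟨q, by omega⟩
  · rw [c.2 p q hpq]; exact zero_mem _

lemma tot_vanish {ha : K.δ 0 ≫ a = K.δ (1 : Fin 2) ≫ a} {U : Set S} (hU : IsOpen U)
    {c : (bicx F K B a ha).G} (h : ∀ p q, ∀ t ∈ U, c p q ∈ vanish F q t) :
    ∀ p q, ∀ t ∈ U, (bicx F K B a ha).tot c p q ∈ vanish F q t := by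
  intro p q t ht
  rw [Bicx.tot_apply]
  refine add_mem ?_ ?_
  · rcases p with _ | p
    · exact zero_mem _
    · exact aH_vanish p q _ (h p q t ht)
  · rcases q with _ | q
    · exact zero_mem _
    · exact zsmul_mem (dl_vanish hU (h p q) t ht) _

variable (F)

/-- The total complex as a complex of pointwise glued families. -/
noncomputable def totPt (H : FibAcyclic K B a) : PtCx.{u, u} S where
  C n := (bicx F K B a H.ha).W n
  d n := ((bicx F K B a H.ha).tot.comp ((bicx F K B a H.ha).W n).subtype).codRestrict _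
    fun c => Bicx.tot_mem_W c.2
  Z := tVanish F K B a H.ha
  sep n c h := Subtype.ext (funext fun p => funext fun q => funext fun y => h _ p q y rfl)
  glue n b := by
    refine ⟨⟨fun p q y => (b ((aT K B p).hom y)).1 p q y, fun p q hpq => funext fun y =>
      congrFun ((b ((aT K B p).hom y)).2 p q hpq) y⟩, fun s p q y hy => ?_⟩
    subst hy
    exact sub_self _
  local' n U hU c h := fun s hs p q => tot_vanish hU (fun p q t ht => h t ht p q) p q s hs
  d_d n c := Subtype.ext (Bicx.tot_tot _)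
  inj s c h := by
    have hcol := colQis (F := F) (s := s) H.ha H.properB H.proper
    have h0 := hcol.zero_of (H.acyclic F s)
      (c := (Bicx.proj (stable_vanishNear H.ha s)).map c.1) (Bicx.Hom.map_mem_W _ c.2)
      (by rw [← Bicx.Hom.map_tot, Bicx.proj_eq_zero_iff]
          exact fun p q => h.mono fun t ht => ht p q)
    exact fun p q => ((Bicx.proj_eq_zero_iff _ _).1 h0 p q).self_of_nhds
  exact n s c h := by
    have hcol := colQis (F := F) (s := s) H.ha H.properB H.proper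
    obtain ⟨b, hb, e⟩ := hcol.exact (H.acyclic F s)
      (c := (Bicx.proj (stable_vanishNear H.ha s)).map c.1) (Bicx.Hom.map_mem_W _ c.2)
      (by rw [← Bicx.Hom.map_tot, Bicx.proj_eq_zero_iff]
          exact fun p q => h.mono fun t ht => ht p q)
    obtain ⟨b', hb', rfl⟩ := Bicx.exists_lift _ hb
    refine ⟨⟨b', hb'⟩, eventually_tVanish fun p q => ?_⟩
    refine (Bicx.proj_eq_zero_iff (stable_vanishNear H.ha s) _).1 ?_ p q
    change (Bicx.proj _).map (c.1 - (bicx F K B a H.ha).tot b') = 0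
    rw [map_sub, Bicx.Hom.map_tot, e, sub_self]

theorem tot_exact (H : FibAcyclic K B a) (n : ℕ) (c : (bicx F K B a H.ha).G)
    (hc : c ∈ (bicx F K B a H.ha).W (n + 1)) (hd : (bicx F K B a H.ha).tot c = 0) :
    ∃ b, b ∈ (bicx F K B a H.ha).W n ∧ (bicx F K B a H.ha).tot b = c := by
  obtain ⟨b, hb⟩ := (totPt F H).exists_eq n ⟨c, hc⟩ (Subtype.ext hd)
  exact ⟨b.1, b.2, congrArg Subtype.val hb⟩

theorem tot_injective (H : FibAcyclic K B a) (c : (bicx F K B a H.ha).G)
    (hc : c ∈ (bicx F K B a H.ha).W 0) (hd : (bicx F K B a H.ha).tot c = 0) : c = 0 :=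
  congrArg Subtype.val ((totPt F H).eq_zero ⟨c, hc⟩ (Subtype.ext hd))

/-- The columns of the bicomplex compute cohomology. -/
theorem nonempty_colIso (ha : K.δ 0 ≫ a = K.δ (1 : Fin 2) ≫ a) (p q : ℕ) :
    Nonempty (((bicx F K B a ha).colCx p).homology q ≅
      AddCommGrpCat.of (CohTop.H ((CohTop.pull (aT K B p).hom).obj F) q)) := by
  obtain ⟨e⟩ := nonempty_fnCxIso F (aT K B p) q
  refine ⟨(HomologicalComplex.homologyFunctor _ _ q).mapIso
    (HomologicalComplex.Hom.isoOfComponents (fun _ => Iso.refl _) ?_ :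
      (bicx F K B a ha).colCx p ≅ fnCx F (op (aT K B p))) ≪≫ e⟩
  rintro i _ rfl
  refine (Category.id_comp _).trans (Eq.trans ?_ (Category.comp_id _).symm)
  simp only [fnCx, Bicx.colCx, CochainComplex.of_d]
  rfl

variable (K)

/-- The augmentation to the base. -/
abbrev toBase : K _⦋0⦌ ⟶ Over.mk (𝟙 S) := Over.homMk (K _⦋0⦌).hom (Category.comp_id _)

lemma toBase_cond : K.δ 0 ≫ toBase K = K.δ (1 : Fin 2) ≫ toBase K :=
  Over.OverMorphism.ext ((Over.w (K.δ 0)).trans (Over.w (K.δ (1 : Fin 2))).symm)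

variable {K}

/-- **Descent along a proper simplicial space with fibrewise extra degeneracies.** -/
theorem exists_proper_descent (hK : ∀ p, IsProperSep (K _⦋p⦌))
    (e : ∀ s, ExtraDeg (fibK s K) (fibMap s (toBase K))) :
    ∃ (E : CohomologicalSpectralSequence AddCommGrpCat.{u} 1)
      (a : SpSeq.Abutment E (fun n : ℤ =>
        if 0 ≤ n then AddCommGrpCat.of (CohTop.H F n.toNat) else AddCommGrpCat.of PUnit.{u + 1})),
      (∀ n, a.IsFinite n) ∧ SpSeq.IsBounded E ∧
      ∀ p q : ℤ, Nonempty ((E.page 1 le_rfl).X (p, q) ≅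
        (if 0 ≤ p ∧ 0 ≤ q then
          AddCommGrpCat.of (CohTop.H ((CohTop.pull (K _⦋p.toNat⦌).hom).obj F) q.toNat)
         else AddCommGrpCat.of PUnit.{u + 1})) := by
  have H : FibAcyclic K (Over.mk (𝟙 S)) (toBase K) :=
    ⟨toBase_cond K, IsProperSep.id, hK, fun G s => (e s).rowsAcyclic G _⟩
  let D := bicx F K (Over.mk (𝟙 S)) (toBase K) H.ha
  refine Bicx.exists_spectralSequence D.tail _ (fun n => ?_) (fun n hn => ?_) _ (fun p q => ?_)
    fun p q hpq => ?_
  · have := Bicx.isIso_augTot (D := D) (tot_exact F H) (tot_injective F H) n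
    obtain ⟨e₀⟩ := nonempty_colIso F H.ha 0 n
    refine ⟨(asIso (HomologicalComplex.homologyMap (Bicx.augTot (D := D)) n)).symm ≪≫ e₀ ≪≫
      hIso (pullIdIso F) n ≪≫ eqToIso ?_⟩
    rw [if_pos (Int.natCast_nonneg n), Int.toNat_natCast]
  · rw [if_neg (by lia)]
    exact AddCommGrpCat.isZero_of_subsingleton _
  · obtain ⟨e₁⟩ := nonempty_colIso F H.ha (p + 1) q
    refine ⟨e₁ ≪≫ eqToIso ?_⟩
    rw [if_pos ⟨Int.natCast_nonneg p, Int.natCast_nonneg q⟩, Int.toNat_natCast, Int.toNat_natCast]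
  · rw [if_neg hpq]
    exact AddCommGrpCat.isZero_of_subsingleton _

section Nerve

variable {X : TopCat.{u}} (f : X ⟶ S) {s : S} (x₀ : X) (hx₀ : f x₀ = s)

/-- A point of the fibre, as a section over the base's fibre. -/
noncomputable def fibσ : fibO s (Over.mk (𝟙 S)) ⟶ (nerve f) _⦋0⦌ :=
  Over.homMk (WidePullback.lift (fibO s (Over.mk (𝟙 S))).hom
    (fun _ => TopCat.ofHom ⟨fun _ => x₀, continuous_const⟩) fun _ => by
      ext z; exact hx₀.trans z.2.symm) (WidePullback.lift_base _ _ _ _)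

/-- Insertion of a point of the fibre. -/
noncomputable def fibH (p : ℕ) : fibO s ((nerve f) _⦋p⦌) ⟶ (nerve f) _⦋p + 1⦌ :=
  Over.homMk (WidePullback.lift (fibO s ((nerve f) _⦋p⦌)).hom
    (Fin.cases (TopCat.ofHom ⟨fun _ => x₀, continuous_const⟩)
      fun i => fibIncl s ((nerve f) _⦋p⦌) ≫ WidePullback.π (fun _ : Fin (p + 1) => f) i) (fun j => by
      refine Fin.cases ?_ (fun i => ?_) j
      · ext z; exact hx₀.trans z.2.symm
      · exact (Category.assoc _ _ _).trans (congrArg (fibIncl s _ ≫ ·)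
          (WidePullback.π_arrow (fun _ : Fin (p + 1) => f) i)))) (WidePullback.lift_base _ _ _ _)

lemma over_nerve_ext {T : Over S} {p : ℕ} {g g' : T ⟶ (nerve f) _⦋p⦌}
    (h : ∀ j z, WidePullback.π (fun _ : Fin (p + 1) => f) j (g.left z) =
      WidePullback.π (fun _ : Fin (p + 1) => f) j (g'.left z)) : g = g' := by
  apply Over.OverMorphism.ext
  apply WidePullback.hom_ext
  · intro j; ext z; exact h j z
  · exact (Over.w g).trans (Over.w g').symm

lemma fibH_π_zero (p : ℕ) (z) :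
    WidePullback.π (fun _ : Fin (p + 2) => f) 0 ((fibH f x₀ hx₀ p).left z) = x₀ :=
  ConcreteCategory.congr_hom (WidePullback.lift_π (fun _ : Fin (p + 2) => f) _ _ _ 0) z

lemma fibH_π_succ (p : ℕ) (i : Fin (p + 1)) (z) :
    WidePullback.π (fun _ : Fin (p + 2) => f) i.succ ((fibH f x₀ hx₀ p).left z) =
      WidePullback.π (fun _ : Fin (p + 1) => f) i z.1 :=
  ConcreteCategory.congr_hom (WidePullback.lift_π (fun _ : Fin (p + 2) => f) _ _ _ i.succ) z

lemma fibσ_π (z) : WidePullback.π (fun _ : Fin 1 => f) 0 ((fibσ f x₀ hx₀).left z) = x₀ :=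
  ConcreteCategory.congr_hom (WidePullback.lift_π (fun _ : Fin 1 => f) _ _ _ 0) z

lemma nerve_δ_π (p : ℕ) (i : Fin (p + 2)) (j : Fin (p + 1)) (w) :
    WidePullback.π (fun _ : Fin (p + 1) => f) j (((nerve f).δ i).left w) =
      WidePullback.π (fun _ : Fin (p + 2) => f) (i.succAbove j) w :=
  ConcreteCategory.congr_hom (δL_π f p i j) w

/-- The fibres of the nerve have extra degeneracies. -/
noncomputable def fibNerveExtraDeg : ExtraDeg (fibK s (nerve f)) (fibMap s (toBase (nerve f))) where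
  σ := fibLift s (fibσ f x₀ hx₀)
  σ_a := by
    apply fibι_mono s
    erw [Category.assoc, fibMap_ι, fibLift_ι_assoc, Category.id_comp]
    apply Over.OverMorphism.ext
    exact (Over.w (fibσ f x₀ hx₀)).trans (Category.comp_id _)
  h p := fibLift s (fibH f x₀ hx₀ p)
  h_zero p := by
    apply fibι_mono s
    erw [Category.assoc, fibK_δ, fibLift_ι_assoc, Category.id_comp]
    apply over_nerve_ext
    intro j z
    refine (nerve_δ_π f p 0 j _).trans ?_
    rw [Fin.succAbove_zero]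
    exact fibH_π_succ f x₀ hx₀ p j z
  h_one := by
    apply fibι_mono s
    erw [Category.assoc, Category.assoc, fibK_δ, fibLift_ι_assoc, fibLift_ι]
    apply over_nerve_ext
    intro j z
    obtain rfl := Subsingleton.elim (α := Fin 1) j 0
    refine (nerve_δ_π f 0 1 0 _).trans ?_
    exact (fibH_π_zero f x₀ hx₀ 0 z).trans (fibσ_π f x₀ hx₀ _).symm
  h_succ p i := by
    apply fibι_mono s
    erw [Category.assoc, Category.assoc, fibK_δ, fibLift_ι_assoc, fibLift_ι]
    apply over_nerve_ext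
    intro j z
    refine (nerve_δ_π f (p + 1) i.succ j _).trans ?_
    refine Fin.cases ?_ (fun j => ?_) j
    · rw [Fin.succ_succAbove_zero]
      exact (fibH_π_zero f x₀ hx₀ (p + 1) z).trans (fibH_π_zero f x₀ hx₀ p _).symm
    · rw [Fin.succ_succAbove_succ]
      refine (fibH_π_succ f x₀ hx₀ (p + 1) _ z).trans (Eq.trans ?_ (fibH_π_succ f x₀ hx₀ p j _).symm)
      exact (nerve_δ_π f p i j z.1).symm

end Nerve

end Groth.Agent.H30.Gode
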