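import Groth.Agent.H30.Gode.Germs
import Groth.Agent.H30.Gode.Sheaves

/-!
# Sections of an inverse image as families of germs
-/

universe u

open CategoryTheory Limits Filter Topology TopologicalSpace Opposite

namespace Groth.Agent.H30.Gode

variable {S Y : TopCat.{u}} (F : CohTop.Ab S) (g : Y ⟶ S)

/-- The values of sections of the inverse image. -/
noncomputable def pullToGod : (CohTop.pull g).obj F ⟶ god (lv F g 0) :=
  (pullIsoZ0 F g).hom ≫ kernel.ι (godD (lv F g 0))

lemma pullback_unit_eq : (TopCat.Sheaf.pullbackPushforwardAdjunction AddCommGrpCat.{u} g).unit.app F ≫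
      (TopCat.Sheaf.pushforward AddCommGrpCat.{u} g).map
        ((TopCat.Sheaf.pullbackIso AddCommGrpCat.{u} g).hom.app F) =
      (Functor.sheafPullbackConstruction.sheafAdjunctionContinuous (Opens.map g) AddCommGrpCat.{u}
        (Opens.grothendieckTopology S) (Opens.grothendieckTopology Y)).unit.app F :=
  Adjunction.unit_leftAdjointUniq_hom_app (Functor.sheafAdjunctionContinuous (Opens.map g) AddCommGrpCat.{u}
        (Opens.grothendieckTopology S) (Opens.grothendieckTopology Y)) (Functor.sheafPullbackConstruction.sheafAdjunctionContinuous (Opens.map g) AddCommGrpCat.{u}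
        (Opens.grothendieckTopology S) (Opens.grothendieckTopology Y)) F

lemma constr_unit_eq : ((Functor.sheafPullbackConstruction.sheafAdjunctionContinuous (Opens.map g)
      AddCommGrpCat.{u} (Opens.grothendieckTopology S) (Opens.grothendieckTopology Y)).unit.app F).hom =
      (TopCat.Presheaf.pullbackPushforwardAdjunction AddCommGrpCat.{u} g).unit.app F.obj ≫
        Functor.whiskerLeft (Opens.map g).op (toSheafify (Opens.grothendieckTopology Y)
          ((TopCat.Presheaf.pullback AddCommGrpCat.{u} g).obj F.obj)) := by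
  change (sheafToPresheaf (Opens.grothendieckTopology S) AddCommGrpCat.{u}).map
    ((Functor.sheafPullbackConstruction.sheafAdjunctionContinuous (Opens.map g)
      AddCommGrpCat.{u} (Opens.grothendieckTopology S) (Opens.grothendieckTopology Y)).unit.app F) = _
  rw [Functor.sheafPullbackConstruction.sheafAdjunctionContinuous,
    Adjunction.map_restrictFullyFaithful_unit_app]
  simp
  erw [CategoryTheory.Functor.whiskerLeft_id, Category.id_comp, Category.comp_id]
  rfl

lemma toSheafify_pullToGod :
    toSheafify (Opens.grothendieckTopology Y)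
        ((TopCat.Presheaf.pullback AddCommGrpCat.{u} g).obj F.obj) ≫
      ((presheafToSheaf (Opens.grothendieckTopology Y) AddCommGrpCat.{u}).map (toZ0 F g)).hom ≫
      (((sheafificationAdjunction (Opens.grothendieckTopology Y) AddCommGrpCat.{u}).counit.app
        (Z0 F g))).hom ≫ (kernel.ι (godD (lv F g 0))).hom = pullVal F g := by
  refine Eq.trans ?_ (toZ0_ι F g)
  have h := (sheafificationAdjunction (Opens.grothendieckTopology Y) AddCommGrpCat.{u}).homEquiv_unit
    _ _ ((presheafToSheaf (Opens.grothendieckTopology Y) AddCommGrpCat.{u}).map (toZ0 F g) ≫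
      (sheafificationAdjunction (Opens.grothendieckTopology Y) AddCommGrpCat.{u}).counit.app (Z0 F g))
  rw [← Category.assoc, ← Category.assoc]
  congr 1
  rw [Category.assoc]
  refine h.symm.trans ?_
  rw [Adjunction.homEquiv_naturality_left]
  erw [Adjunction.homEquiv_unit, Adjunction.right_triangle_components, Category.comp_id]

theorem pullToGod_unit (T : Opens S) (t : F.obj.obj (op T)) (y : Y) (hy : y ∈ (Opens.map g).obj T) :
    (pullToGod F g).hom.app (op ((Opens.map g).obj T))
      (((TopCat.Sheaf.pullbackPushforwardAdjunction AddCommGrpCat.{u} g).unit.app F).hom.app (op T) t)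
      ⟨y, hy⟩ = germ F (show g y ∈ T from hy) t := by
  have h1 := congrArg (fun α => α.hom) (pullback_unit_eq F g)
  have h2 := congrArg (fun α => α.app (op T) t) (h1.trans (constr_unit_eq F g))
  have hp := pullVal_unit F g T _ le_rfl t y hy
  simp only [show (homOfLE (le_refl ((Opens.map g).obj T))).op = 𝟙 _ from rfl,
    CategoryTheory.Functor.map_id] at hp
  rw [← toSheafify_pullToGod F g] at hp
  refine Eq.trans ?_ hp
  exact congrArg (fun w => ((kernel.ι (godD (lv F g 0))).hom.app _
    (((sheafificationAdjunction (Opens.grothendieckTopology Y) AddCommGrpCat.{u}).counit.app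
      (Z0 F g)).hom.app _
      (((presheafToSheaf (Opens.grothendieckTopology Y) AddCommGrpCat.{u}).map (toZ0 F g)).hom.app
        (op ((Opens.map g).obj T)) w))) (⟨y, hy⟩ : ((Opens.map g).obj T : Set Y))) h2

/-- The values of a section of the inverse image, extended by zero. -/
noncomputable def secVal (V : Opens Y) :
    ((CohTop.pull g).obj F).obj.obj (op V) →+ (lv F g 0).Fn :=
  (ext0 (lv F g 0) V).comp ((pullToGod F g).hom.app (op V)).hom

variable {F g}

lemma secVal_res {V W : Opens Y} (i : W ≤ V) (x : ((CohTop.pull g).obj F).obj.obj (op V)) (y : Y)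
    (hy : y ∈ W) :
    secVal F g W (((CohTop.pull g).obj F).obj.map (homOfLE i).op x) y = secVal F g V x y := by
  refine (ext0_of_mem (lv F g 0) _ y hy).trans ?_
  refine (congrFun (ConcreteCategory.congr_hom ((pullToGod F g).hom.naturality (homOfLE i).op) x)
    ⟨y, hy⟩).trans ?_
  exact (ext0_of_mem (lv F g 0) _ y (i hy)).symm

lemma secVal_unit (T : Opens S) (t : F.obj.obj (op T)) (y : Y) (hy : g y ∈ T) :
    secVal F g ((Opens.map g).obj T)
      (((TopCat.Sheaf.pullbackPushforwardAdjunction AddCommGrpCat.{u} g).unit.app F).hom.app (op T) t) y =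
      germ F hy t :=
  (ext0_of_mem (lv F g 0) _ y hy).trans (pullToGod_unit F g T t y hy)

lemma secVal_mem_N {V : Opens Y} (x : ((CohTop.pull g).obj F).obj.obj (op V)) (y : Y) (hy : y ∈ V) :
    secVal F g V x ∈ (lv F g 0).N y := by
  refine (Lv.d_eq_zero_iff _ _ _).1 ?_
  exact congrFun (ConcreteCategory.congr_hom (congrArg
    (fun φ : (CohTop.pull g).obj F ⟶ god (lv F g 0).next => φ.hom.app (op V))
    (show pullToGod F g ≫ godD (lv F g 0) = 0 by
      rw [pullToGod, Category.assoc, kernel.condition, comp_zero])) x) ⟨y, hy⟩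

variable (F g) in
lemma pullToGod_injective (V : (Opens Y)ᵒᵖ) : Function.Injective ((pullToGod F g).hom.app V) := by
  have : Function.Injective ((pullIsoZ0 F g).hom.hom.app V) := fun a b h => by
    have := congrArg ((pullIsoZ0 F g).inv.hom.app V) h
    rwa [← ConcreteCategory.comp_apply, ← ConcreteCategory.comp_apply, ← NatTrans.comp_app,
      show (pullIsoZ0 F g).hom.hom ≫ (pullIsoZ0 F g).inv.hom = 𝟙 _ from
        congrArg (fun φ => φ.hom) (pullIsoZ0 F g).hom_inv_id] at this
  exact (ι_injective F g V).comp this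

lemma secVal_eq_iff {V : Opens Y} {x x' : ((CohTop.pull g).obj F).obj.obj (op V)} :
    x = x' ↔ ∀ y ∈ V, secVal F g V x y = secVal F g V x' y := by
  refine ⟨fun h y _ => h ▸ rfl, fun h => pullToGod_injective F g _ (funext fun y => ?_)⟩
  exact (ext0_of_mem (lv F g 0) _ y.1 y.2).symm.trans
    ((h y.1 y.2).trans (ext0_of_mem (lv F g 0) _ y.1 y.2))

/-- Sections with the same value at a point agree near it. -/
lemma exists_res_eq {V V' : Opens Y} (x : ((CohTop.pull g).obj F).obj.obj (op V))
    (x' : ((CohTop.pull g).obj F).obj.obj (op V')) (y : Y) (hy : y ∈ V) (hy' : y ∈ V')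
    (h : secVal F g V x y = secVal F g V' x' y) :
    ∃ (W : Opens Y) (i : W ≤ V) (i' : W ≤ V'), y ∈ W ∧
      ((CohTop.pull g).obj F).obj.map (homOfLE i).op x =
        ((CohTop.pull g).obj F).obj.map (homOfLE i').op x' := by
  have hz := eventually_zero_of_mem_N F g 0 y _
    (sub_mem (secVal_mem_N x y hy) (secVal_mem_N x' y hy')) (sub_eq_zero.2 h)
  obtain ⟨O, hO, hOo, hyO⟩ := eventually_nhds_iff.1 hz
  refine ⟨(⟨O, hOo⟩ ⊓ V) ⊓ V', inf_le_left.trans inf_le_right, inf_le_right,
    ⟨⟨hyO, hy⟩, hy'⟩, secVal_eq_iff.2 fun z hz => ?_⟩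
  rw [secVal_res _ _ _ hz, secVal_res _ _ _ hz]
  exact sub_eq_zero.1 (hO z hz.1.1)

lemma germ_eq_of_secVal {V V' : Opens Y} (x : ((CohTop.pull g).obj F).obj.obj (op V))
    (x' : ((CohTop.pull g).obj F).obj.obj (op V')) (y : Y) (hy : y ∈ V) (hy' : y ∈ V')
    (h : secVal F g V x y = secVal F g V' x' y) :
    germ ((CohTop.pull g).obj F) hy x = germ ((CohTop.pull g).obj F) hy' x' := by
  obtain ⟨W, i, i', hW, e⟩ := exists_res_eq x x' y hy hy' h
  exact TopCat.Presheaf.germ_ext _ W hW (homOfLE i) (homOfLE i') e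

/-- Cocycles over an open set are values of sections. -/
lemma exists_secVal {V : Opens Y} (φ : (lv F g 0).Fn) (h : ∀ y ∈ V, φ ∈ (lv F g 0).N y) :
    ∃ x : ((CohTop.pull g).obj F).obj.obj (op V), ∀ y ∈ V, secVal F g V x y = φ y := by
  let v : (god (lv F g 0)).obj.obj (op V) := fun y => φ y.1
  have hv : (godD (lv F g 0)).hom.app (op V) v = 0 := funext fun y =>
    (Lv.d_congr _ (Filter.mem_of_superset (V.isOpen.mem_nhds y.2)
      fun z hz => ext0_of_mem (lv F g 0) v z hz)).trans ((Lv.d_eq_zero_iff _ _ _).2 (h y.1 y.2))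
  let e := PreservesKernel.iso (sheafToPresheaf (Opens.grothendieckTopology Y) AddCommGrpCat.{u})
    (godD (lv F g 0))
  let e' := PreservesKernel.iso ((evaluation _ AddCommGrpCat.{u}).obj (op V))
    (godD (lv F g 0)).hom
  let w : (kernel ((godD (lv F g 0)).hom.app (op V)) : AddCommGrpCat.{u}) :=
    (AddCommGrpCat.kernelIsoKer ((godD (lv F g 0)).hom.app (op V))).inv ⟨v, hv⟩
  refine ⟨(pullIsoZ0 F g).inv.hom.app (op V) (e.inv.app (op V) (e'.inv w)), fun y hy => ?_⟩
  refine (ext0_of_mem (lv F g 0) _ y hy).trans ?_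
  have h1 : (pullToGod F g).hom.app (op V)
      ((pullIsoZ0 F g).inv.hom.app (op V) (e.inv.app (op V) (e'.inv w))) = v := by
    rw [← ConcreteCategory.comp_apply, ← NatTrans.comp_app,
      show (pullIsoZ0 F g).inv.hom ≫ (pullToGod F g).hom = (kernel.ι (godD (lv F g 0))).hom from
        congrArg (fun φ : Z0 F g ⟶ god (lv F g 0) => φ.hom)
          ((pullIsoZ0 F g).inv_hom_id_assoc (kernel.ι (godD (lv F g 0))))]
    refine (ConcreteCategory.congr_hom (NatTrans.congr_app
      (PreservesKernel.iso_inv_ι (sheafToPresheaf (Opens.grothendieckTopology Y) AddCommGrpCat.{u})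
        (godD (lv F g 0))) (op V)) (e'.inv w)).trans ?_
    refine (ConcreteCategory.congr_hom (PreservesKernel.iso_inv_ι
      ((evaluation _ AddCommGrpCat.{u}).obj (op V)) (godD (lv F g 0)).hom) w).trans ?_
    exact ConcreteCategory.congr_hom
      (AddCommGrpCat.kernelIsoKer_inv_comp_ι (f := (godD (lv F g 0)).hom.app (op V))) _
  exact congrFun h1 ⟨y, hy⟩

end Groth.Agent.H30.Gode
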