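import Groth.Agent.H30.Gode.Lift
import Groth.Agent.H30.Gode.PullSec

/-!
# Sections along compact relatively separated subsets; softness of restrictions of flasque sheaves
-/

universe u

open CategoryTheory Limits Filter Topology TopologicalSpace Opposite

namespace Groth.Agent.H30.Gode

section Glue

variable {S : TopCat.{u}} (F : CohTop.Ab S)

/-- Cocycles on the base are germs of sections. -/
theorem exists_germ_section (U : Opens S) (Φ : (lv F (𝟙 S) 0).Fn)
    (h : ∀ y ∈ U, Φ ∈ (lv F (𝟙 S) 0).N y) :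
    ∃ t : F.obj.obj (op U), ∀ (y : S) (hy : y ∈ U), germ F hy t = Φ y := by
  have hloc : ∀ y : U, ∃ (V : Opens S) (t : F.obj.obj (op V)), y.1 ∈ V ∧ V ≤ U ∧
      ∀ z (hz : z ∈ V), germ F hz t = Φ z := fun y => by
    obtain ⟨W, hW, t, ht⟩ := h y.1 y.2
    obtain ⟨O, hO, hOo, hyO⟩ := eventually_nhds_iff.1 ht
    refine ⟨(W ⊓ ⟨O, hOo⟩) ⊓ U, F.obj.map (homOfLE (inf_le_left.trans inf_le_left)).op t,
      ⟨⟨hW, hyO⟩, y.2⟩, inf_le_right, fun z hz => ?_⟩
    exact (TopCat.Presheaf.germ_res_apply F.obj _ z hz t).trans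
      ((germFam_of_mem F (𝟙 S) t z hz.1.1).symm.trans (hO z hz.1.2).symm)
  choose V t hyV hVU ht using hloc
  have hc : TopCat.Presheaf.IsCompatible F.obj V t := fun a b =>
    TopCat.Presheaf.section_ext (C := AddCommGrpCat.{u}) F _ _ _ fun z hz => by
      exact (TopCat.Presheaf.germ_res_apply F.obj _ z hz _).trans ((ht a z hz.1).trans
        ((ht b z hz.2).symm.trans (TopCat.Presheaf.germ_res_apply F.obj _ z hz _).symm))
  obtain ⟨t', ht', -⟩ := TopCat.Sheaf.existsUnique_gluing' (C := AddCommGrpCat.{u}) F V U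
    (fun y => homOfLE (hVU y)) (fun z hz => Opens.mem_iSup.2 ⟨⟨z, hz⟩, hyV ⟨z, hz⟩⟩) t hc
  refine ⟨t', fun y hy => ?_⟩
  rw [← TopCat.Presheaf.germ_res_apply F.obj (homOfLE (hVU ⟨y, hy⟩)) y (hyV ⟨y, hy⟩) t',
    ht' ⟨y, hy⟩]
  exact ht _ y _

variable {Z : TopCat.{u}} (i : Z ⟶ S) [CompactSpace Z] (hs : RelSep (i : Z → S))
include hs

/-- Sections on a compact relatively separated subspace extend to a neighbourhood. -/
theorem exists_nhd_section (φ : (lv F i 0).Fn) (h : ∀ z, φ ∈ (lv F i 0).N z) :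
    ∃ (U : Opens S) (hU : ∀ z, i z ∈ U) (t : F.obj.obj (op U)), ∀ z, germ F (hU z) t = φ z := by
  obtain ⟨Φ, hΦ, e⟩ := restrict_surj_zero (F := F) (g := 𝟙 S) (i := i) hs φ
    (funext fun z => (Lv.d_eq_zero_iff _ _ _).2 (h z))
  let U : Opens S := ⟨interior {y | Φ ∈ (lv F (𝟙 S) 0).N y}, isOpen_interior⟩
  have hU : ∀ z, i z ∈ U := fun z => mem_interior_iff_mem_nhds.2
    ((hΦ z).mono fun t ht => (Lv.d_eq_zero_iff _ _ _).1 ht)
  obtain ⟨t, ht⟩ := exists_germ_section F U Φ fun y hy => interior_subset (s := {y | Φ ∈ (lv F (𝟙 S) 0).N y}) hy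
  exact ⟨U, hU, t, fun z => (ht (i z) (hU z)).trans (congrFun e z)⟩

/-- For a flasque sheaf they extend to the whole space. -/
theorem exists_global_section [TopCat.Sheaf.IsFlasque F] (φ : (lv F i 0).Fn)
    (h : ∀ z, φ ∈ (lv F i 0).N z) :
    ∃ t : F.obj.obj (op ⊤), ∀ z, germ F (W := ⊤) (s := i z) trivial t = φ z := by
  obtain ⟨U, hU, t, ht⟩ := exists_nhd_section F i hs φ h
  obtain ⟨t', rfl⟩ := (AddCommGrpCat.epi_iff_surjective _).1
    (TopCat.Presheaf.IsFlasque.epi (F := F.obj) (homOfLE (le_top : U ≤ ⊤)).op) t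
  exact ⟨t', fun z => (TopCat.Presheaf.germ_res_apply F.obj _ _ (hU z) t').symm.trans (ht z)⟩

end Glue

section Transitive

variable {S T Z : TopCat.{u}} (F : CohTop.Ab S) (g : T ⟶ S) (j : Z ⟶ T)

/-- The values in `F` of a section of an iterated inverse image. -/
lemma exists_iterated_value {V : Opens Z} (x : ((CohTop.pull j).obj ((CohTop.pull g).obj F)).obj.obj (op V)) :
    ∃ φ : (lv F (j ≫ g) 0).Fn, ∀ z ∈ V, φ ∈ (lv F (j ≫ g) 0).N z ∧
      ∀ (W : Opens T) (σ : ((CohTop.pull g).obj F).obj.obj (op W)) (hW : j z ∈ W),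
        secVal F g W σ (j z) = φ z ↔
          germ ((CohTop.pull g).obj F) hW σ = secVal ((CohTop.pull g).obj F) j V x z := by
  classical
  have hex : ∀ z, ∃ (W : Opens T) (σ : ((CohTop.pull g).obj F).obj.obj (op W)) (hW : j z ∈ W),
      germ ((CohTop.pull g).obj F) hW σ = secVal ((CohTop.pull g).obj F) j V x z := fun z => by
    obtain ⟨W, hW, σ, e⟩ := TopCat.Presheaf.exists_germ_eq ((CohTop.pull g).obj F).obj (x := j z)
      (secVal ((CohTop.pull g).obj F) j V x z)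
    exact ⟨W, σ, hW, e⟩
  choose W σ hW hσ using hex
  have key : ∀ (z : Z) (W' : Opens T) (σ' : ((CohTop.pull g).obj F).obj.obj (op W')) (hW' : j z ∈ W'),
      secVal F g W' σ' (j z) = secVal F g (W z) (σ z) (j z) ↔
        germ ((CohTop.pull g).obj F) hW' σ' = secVal ((CohTop.pull g).obj F) j V x z := by
    intro z W' σ' hW'
    refine ⟨fun h => (germ_eq_of_secVal σ' (σ z) (j z) hW' (hW z) h).trans (hσ z), fun h => ?_⟩
    obtain ⟨W'', hW'', i₁, i₂, e⟩ := TopCat.Presheaf.germ_eq ((CohTop.pull g).obj F).obj (j z) hW'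
      (hW z) σ' (σ z) (h.trans (hσ z).symm)
    have e' := congrArg (fun s => secVal F g W'' s (j z)) e
    exact (secVal_res i₁.le σ' (j z) hW'').symm.trans (e'.trans (secVal_res i₂.le (σ z) (j z) hW''))
  refine ⟨fun z => secVal F g (W z) (σ z) (j z), fun z hz => ⟨?_, key z⟩⟩
  obtain ⟨W₀, hW₀, σ₀, hσ₀⟩ := secVal_mem_N x z hz
  obtain ⟨T₀, hT₀, t, ht⟩ := secVal_mem_N σ₀ (j z) hW₀
  refine ⟨T₀, hT₀, t, ?_⟩
  filter_upwards [hσ₀, (j.hom.continuous.tendsto z).eventually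
    (ht.and ((W₀.isOpen.mem_nhds hW₀)))] with w hw hw'
  have h := (key w W₀ σ₀ hw'.2).2 ((hw.trans (germFam_of_mem _ j σ₀ w hw'.2)).symm)
  exact h.symm.trans hw'.1

end Transitive

end Groth.Agent.H30.Gode
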