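import Groth.Agent.H30.Gode.GermHS
import Groth.Agent.H30.Gode.StalkFib

/-!
# Stalks of higher direct images along spectral maps (helper30)
-/

universe u

open CategoryTheory Limits TopologicalSpace Opposite Filter Topology

namespace Groth.Agent.H30.Gode.StalkSpec

open Groth.Agent.H30.Gode Groth.Agent.Lib.Spectral

variable {X Y : TopCat.{u}} (f : X ⟶ Y) (y : Y) (F : CohTop.Ab X) (n : ℕ)

/-- The points of `X` mapping to generizations of `y`. -/
abbrev Wset : Set X := {x : X | y ∈ closure {f x}}

/-- The inclusion. -/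
abbrev incl : TopCat.of (Wset f y) ⟶ X := TopCat.ofHom ⟨Subtype.val, continuous_subtype_val⟩

lemma mem_preimage {V : Opens Y} (hV : y ∈ V) (z : TopCat.of (Wset f y)) :
    incl f y z ∈ (Opens.map f).obj V := by
  obtain ⟨w, hw, hwe⟩ := mem_closure_iff.1 z.2 (V : Set Y) V.2 hV
  have hwe' : w = f z.1 := hwe
  exact (hwe' ▸ hw : f z.1 ∈ (V : Set Y))

lemma gen_Wset : gen (Wset f y) = Wset f y := by
  refine subset_antisymm ?_ (subset_gen _)
  rintro x ⟨e, he, hex⟩
  have h1 : f e ∈ closure {f x} := by
    have := image_closure_subset_closure_image (f := f) f.hom.continuous ⟨e, hex, rfl⟩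
    simpa using this
  exact closure_minimal (Set.singleton_subset_iff.2 h1) isClosed_closure he

variable [SpectralSpace X] [SpectralSpace Y] (hf : IsSpectralMap f)

/-- The compact open neighbourhoods of `y`. -/
abbrev qcPt : Type u := {V : Opens Y // y ∈ V ∧ IsCompact (V : Set Y)}

omit [SpectralSpace X] in
lemma Wset_eq_iInter : Wset f y = ⋂ V : qcPt y, ((Opens.map f).obj V.1 : Set X) := by
  refine subset_antisymm (Set.subset_iInter fun V x hx => mem_preimage f y V.2.1 ⟨x, hx⟩) fun x hx => ?_
  refine mem_closure_iff.2 fun U hU hyU => ?_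
  obtain ⟨V, ⟨hVo, hVc⟩, hyV, hVU⟩ :=
    (PrespectralSpace.isTopologicalBasis (X := Y)).exists_subset_of_mem_open hyU hU
  exact ⟨f x, hVU (Set.mem_iInter.1 hx ⟨⟨V, hVo⟩, hyV, hVc⟩), rfl⟩

include hf

omit [SpectralSpace X] in
lemma isClosed_cons_Wset : IsClosed[constructibleTopology X] (Wset f y) := by
  rw [Wset_eq_iInter]
  exact @isClosed_iInter X _ (constructibleTopology X) _ fun V =>
    Basic.isClosed_cons (V.1.2.preimage f.hom.continuous) (hf.isCompact_preimage_of_isOpen V.1.2 V.2.2)

/-- The tube lemma: an open containing all generizations contains the preimage of a nhd of `y`. -/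
lemma exists_tube (U : Opens X) (hU : ∀ z, incl f y z ∈ U) :
    ∃ V : Opens Y, y ∈ V ∧ (Opens.map f).obj V ≤ U := by
  classical
  by_contra hne
  push Not at hne
  let A : Option (qcPt y) → Set X := fun P =>
    P.elim ((U : Set X)ᶜ) (fun W => ((Opens.map f).obj W.1 : Set X))
  have hA : ∀ P, IsClosed[constructibleTopology X] (A P) := by
    intro P
    cases P with
    | none => exact Basic.isClosed_cons_of_isClosed U.2.isClosed_compl
    | some W =>
      exact Basic.isClosed_cons (W.1.2.preimage f.hom.continuous)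
        (hf.isCompact_preimage_of_isOpen W.1.2 W.2.2)
  have hnonempty : (⋂ P, A P).Nonempty := by
    refine Basic.nonempty_iInter_of_isClosed_cons A hA fun u => ?_
    have hopen : ∀ P : Option (qcPt y), IsOpen (P.elim Set.univ (fun W => (W.1 : Set Y))) := by
      intro P
      cases P with
      | none => exact isOpen_univ
      | some W => exact W.1.2
    let O : Opens Y := ⟨⋂ P ∈ u, P.elim Set.univ (fun W => (W.1 : Set Y)),
      isOpen_biInter_finset fun P _ => hopen P⟩
    have hyO : y ∈ O := Set.mem_iInter₂.2 fun P _ => by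
      cases P with
      | none => trivial
      | some W => exact W.2.1
    obtain ⟨x, hxO, hxU⟩ := SetLike.not_le_iff_exists.1 (hne O hyO)
    refine ⟨x, Set.mem_iInter₂.2 fun P hP => ?_⟩
    cases P with
    | none => exact hxU
    | some W => exact Set.mem_iInter₂.1 hxO (some W) hP
  obtain ⟨x, hx⟩ := hnonempty
  have hx' : x ∈ Wset f y := by
    rw [Wset_eq_iInter]
    exact Set.mem_iInter.2 fun V => Set.mem_iInter.1 hx (some V)
  exact Set.mem_iInter.1 hx none (hU ⟨x, hx'⟩)

/-- The glue class on `Wset`. -/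
noncomputable def glueClass : GlueClass (incl f y : TopCat.of (Wset f y) → X) :=
  genClass (Basic.isCompact_of_isClosed_cons (isClosed_cons_Wset f y hf)) _ IsEmbedding.subtypeVal (by
    change Set.range Subtype.val = _
    rw [Subtype.range_coe, gen_Wset])

omit [SpectralSpace X] [SpectralSpace Y] hf in
/-- The comparison from the stalk. -/
noncomputable def stalkToW : (hPre f F n).stalk y ⟶
    AddCommGrpCat.of (CohTop.H ((CohTop.pull (incl f y)).obj F) n) :=
  colimit.desc _
    { pt := _
      ι :=
        { app := fun W => AddCommGrpCat.ofHom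
            (resZ (incl f y) _ (mem_preimage f y W.unop.2) n)
          naturality := fun W W' j => by
            ext x
            exact resZ_res (incl f y) _ (mem_preimage f y W.unop.2) n
              ((Opens.map f).map ((OpenNhds.inclusion y).map j.unop))
              (mem_preimage f y W'.unop.2) x } }

omit [SpectralSpace X] [SpectralSpace Y] hf in
lemma stalkToW_germ (V : Opens Y) (hV : y ∈ V) (t : (hPre f F n).obj (op V)) :
    stalkToW f y F n ((hPre f F n).germ V y hV t) =
      resZ (incl f y) _ (mem_preimage f y hV) n t := by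
  unfold stalkToW TopCat.Presheaf.germ
  rw [← ConcreteCategory.comp_apply]
  erw [colimit.ι_desc]
  rfl

theorem stalkToW_bijective : Function.Bijective (stalkToW f y F n) := by
  refine ⟨(injective_iff_map_eq_zero _).2 fun x hx => ?_, fun x => ?_⟩
  · obtain ⟨V, hV, t, rfl⟩ := TopCat.Presheaf.exists_germ_eq _ (x := y) x
    rw [stalkToW_germ] at hx
    obtain ⟨U, j, hU, hc⟩ := GH.resZ_eq_zero (incl f y) _ (mem_preimage f y hV) n
      (glueClass f y hf) t hx
    obtain ⟨O, hyO, hO⟩ := exists_tube f y hf U hU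
    let V' : Opens Y := O ⊓ V
    have hle : (Opens.map f).obj V' ≤ U := fun x hx => hO hx.1
    refine Eq.trans ?_ (map_zero ((hPre f F n).germ V y hV).hom)
    refine TopCat.Presheaf.germ_ext _ V' ⟨hyO, hV⟩ (homOfLE inf_le_right) (homOfLE inf_le_right) ?_
    rw [map_zero]
    have hc' := congrArg ((Sheaf.cohomologyPresheaf.{u} F n).map (homOfLE hle).op) hc
    rw [map_zero] at hc'
    refine Eq.trans ?_ hc'
    change _ = (Sheaf.cohomologyPresheaf.{u} F n).map (homOfLE hle).op
      ((Sheaf.cohomologyPresheaf.{u} F n).map j.op t)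
    rw [← ConcreteCategory.comp_apply, ← Functor.map_comp]
    rfl
  · obtain ⟨U, hU, c, hc⟩ := GH.exists_resZ_eq (incl f y) n (glueClass f y hf) x
    obtain ⟨V, hyV, hV⟩ := exists_tube f y hf U hU
    refine ⟨(hPre f F n).germ V y hyV (CohTop.res F n hV c), ?_⟩
    rw [stalkToW_germ]
    exact (resZ_res (incl f y) U hU n (homOfLE hV) (mem_preimage f y hyV) c).trans hc

/-- `(R^n f_* F)_y ≅ H^n(Wset, F)`. -/
theorem nonempty_stalk_Rpush :
    Nonempty (CohTop.stalk ((CohTop.Rpush f n).obj F) y ≅
      AddCommGrpCat.of (CohTop.H ((CohTop.pull (incl f y)).obj F) n)) := by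
  obtain ⟨e⟩ := TopCoh.nonempty_rpushSheafifyIso f F n
  have h1 := TopCat.Presheaf.stalkFunctor_map_unit_toSheafify_isIso y AddCommGrpCat.{u} (hPre f F n)
  have h2 : IsIso (stalkToW f y F n) :=
    (ConcreteCategory.isIso_iff_bijective _).2 (stalkToW_bijective f y F n hf)
  exact ⟨(TopCat.Presheaf.stalkFunctor AddCommGrpCat.{u} y).mapIso
    ((sheafToPresheaf _ _).mapIso e) ≪≫ (@asIso _ _ _ _ _ h1).symm ≪≫
    @asIso _ _ _ _ _ h2⟩

end Groth.Agent.H30.Gode.StalkSpec
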